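import Cfsg.Agent.Lib.Small.Char2Invol.F4.Classes
import Cfsg.Agent.Lib.Lie.TwistPair
import Cfsg.Agent.Lib.Lie.Tits

/-!
Centralisers of the representatives, and the class count.
-/

set_option autoImplicit false
set_option maxRecDepth 4000
set_option linter.unusedSectionVars false

namespace Cfsg.Agent.Small.C2Inv.F4

open Cfsg.Lie Cfsg.Agent.Lie
open Cfsg.Agent.Lie.F4 (Setup Os ws okPi_ws)
open scoped MatrixGroups

variable {K : Type*} [Field K] [CharP K 2] [Fintype K] {m : ℕ} (S : Setup K m)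

include S in
theorem exists_ct_El {g : GL chevF4.Idx K} (hg : g ∈ twistedF4 K (2 ^ m)) (h2 : g * g = 1) :
    ∃ l : List K, l.length = 12 ∧ Inv m l ∧ CT K m g (El m l) := by
  classical
  haveI : Fact (Nat.Prime 2) := ⟨Nat.prime_two⟩
  set G := twistedF4 K (2 ^ m) with hG
  set P : Subgroup ↥G := (chevF4.posUnipotent K ⊓ G).subgroupOf G with hP
  have hPc : Nat.card ↥P = (2 ^ (2 * m + 1)) ^ 12 := by
    rw [hP, Nat.card_congr (Subgroup.subgroupOfEquivOfLe inf_le_right).toEquiv]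
    have h := S.data.card_U
    change Nat.card ↥(chevF4.posUnipotent K ⊓ G) ^ 2 = (2 ^ (2 * m + 1)) ^ (chevF4.nroots / 2) at h
    rw [show chevF4.nroots / 2 = 12 * 2 from rfl, pow_mul _ 12 2] at h
    exact Nat.pow_left_injective two_ne_zero h
  have hp : IsPGroup 2 ↥P := IsPGroup.of_card (n := (2 * m + 1) * 12) (by rw [hPc, ← pow_mul])
  obtain ⟨M, hM, hodd⟩ : ∃ M, Nat.card ↥G = (2 ^ (2 * m + 1)) ^ 12 * M ∧ ¬ 2 ∣ M := by
    refine ⟨_, by rw [hG, S.card_group, mul_assoc, mul_assoc, mul_assoc], ?_⟩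
    have he : 2 ∣ 2 ^ (2 * m + 1) := dvd_pow_self 2 (by omega)
    have hq : 1 ≤ 2 ^ (2 * m + 1) := Nat.one_le_two_pow
    generalize 2 ^ (2 * m + 1) = q at he hq
    obtain ⟨k, rfl⟩ := he
    have e1 : 1 ≤ (2 * k) ^ 4 := Nat.one_le_pow _ _ hq
    have d3 : 2 ∣ (2 * k) ^ 3 := dvd_pow (Dvd.intro k rfl) (by norm_num)
    have d4 : 2 ∣ (2 * k) ^ 4 := dvd_pow (Dvd.intro k rfl) (by norm_num)
    have d6 : 2 ∣ (2 * k) ^ 6 := dvd_pow (Dvd.intro k rfl) (by norm_num)
    simp only [Nat.Prime.dvd_mul Nat.prime_two, not_or]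
    omega
  have hi : P.index = M := by
    have := P.card_mul_index
    rw [hPc, hM] at this
    exact mul_left_cancel₀ (by positivity) this
  obtain ⟨x, hx⟩ : ∃ x : ↥G, x = ⟨g, hg⟩ := ⟨_, rfl⟩
  have hz : IsPGroup 2 ↥(Subgroup.zpowers x) := by
    rintro ⟨y, hy⟩
    obtain ⟨k, rfl⟩ := Subgroup.mem_zpowers_iff.1 hy
    refine ⟨1, Subtype.ext ?_⟩
    show (x ^ k) ^ 2 ^ 1 = 1
    have h : x ^ 2 = 1 := by rw [hx, pow_two]; exact Subtype.ext h2
    rw [pow_one, ← zpow_natCast, ← zpow_mul, mul_comm, zpow_mul, zpow_natCast, h, one_zpow]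
  obtain ⟨Q, hQ⟩ := hz.exists_le_sylow
  obtain ⟨c, hc⟩ := MulAction.exists_smul_eq ↥G (hp.toSylow (by rw [hi]; exact hodd)) Q
  have hxQ := hQ (Subgroup.mem_zpowers x)
  rw [← hc, Sylow.coe_subgroup_smul, Subgroup.mem_pointwise_smul_iff_inv_smul_mem] at hxQ
  have hu : c⁻¹ * x * c ∈ P := by simpa [MulAut.conj_inv_apply] using hxQ
  have hU : ((c⁻¹ * x * c : ↥G) : GL chevF4.Idx K) ∈ (factsF4.tsys K).U := by
    rw [factsF4.tsys_U]; exact (Subgroup.mem_subgroupOf.1 hu).1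
  obtain ⟨l, hl, he⟩ := exists_El S hU (S.le_fix (c⁻¹ * x * c : ↥G).2)
  have hct : CT K m g (El m l) := ⟨(c : GL chevF4.Idx K)⁻¹, inv_mem c.2, by rw [← he, hx]; simp [mul_assoc]⟩
  refine ⟨l, hl, ?_, hct⟩
  obtain ⟨y, -, hy⟩ := hct
  rw [Inv, ← hy, show y * g * y⁻¹ * (y * g * y⁻¹) = y * (g * g) * y⁻¹ by group, h2]
  group

include S in
theorem std_of_involution {g : GL chevF4.Idx K} (hg : g ∈ twistedF4 K (2 ^ m)) (h2 : g * g = 1) (h1 : g ≠ 1) :
    Std m g := by
  obtain ⟨l, hl, hi, hc⟩ := exists_ct_El S hg h2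
  refine Std.of_ct hc (std_El S hl hi fun h => h1 ?_)
  obtain ⟨x, -, hx⟩ := hc
  rw [h] at hx
  exact conj_eq_one_iff.1 hx

/-- The coordinates of the long representative. -/
def zP : List Poly := [[], [], [], [], [], [[]], [], [], [], [], [], []]

/-- The coordinates of the short representative. -/
def pP : List Poly := [[], [], [], [], [], [], [[]], [], [], [], [], []]

/-- The short representative in the middle. -/
noncomputable def pMid (K : Type*) [Field K] (m : ℕ) : GL chevF4.Idx K :=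
  El m ([0, 0, 0, 0, 0, 0, 1, 0, 0, 0, 0, 0] : List K)

include S in
theorem zRep_word (l : List K) : evW (envL m l) (wEl zP) = zRep K m := by
  rw [ev_wEl S]; simp [zP, zRep, evP, evM]

include S in
theorem pMid_word (l : List K) : evW (envL m l) (wEl pP) = pMid K m := by
  rw [ev_wEl S]; simp [pP, pMid, evP, evM]

include S in
theorem pMid_ct : CT K m (pMid K m) (pRep K m) := by
  have h1 := s_sb S 0 0 1 0 (0 : K)
  have h2 := s_sa S 0 1 0 0 0 (0 : K)
  simp only [zero_mul, mul_zero, add_zero, zero_add] at h1 h2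
  exact (h1.trans h2).trans (s_sb S 0 0 0 0 1)

include S in
theorem rep_mem : zRep K m ∈ twistedF4 K (2 ^ m) ∧ pRep K m ∈ twistedF4 K (2 ^ m) :=
  ⟨(El_mem S _).2, (El_mem S _).2⟩

include S in
theorem rep_sq : zRep K m * zRep K m = 1 ∧ pRep K m * pRep K m = 1 := by
  have key : ∀ P : List Poly, eqv 4000 (wEl P ++ wEl P) [] = true →
      El m (P.map (evP (envL m ([] : List K)))) * El m (P.map (evP (envL m ([] : List K)))) = 1 := by
    intro P h
    rw [← ev_wEl S, ← evW_append, eqv_sound h]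
    rfl
  have h1 := key zP (by decide +kernel)
  have h2 := key [[[]], [], [], [], [], [], [], [], [], [], [], []] (by decide +kernel)
  simp [zP, evP, evM] at h1 h2
  exact ⟨h1, h2⟩

include S in
theorem rep_ne : zRep K m ≠ 1 ∧ pRep K m ≠ 1 := by
  have h0 : El m ([0, 0, 0, 0, 0, 0, 0, 0, 0, 0, 0, 0] : List K) = 1 := by simp [El, E_zero, O_zero]
  constructor <;> intro h <;> have e := El_inj S (by simp) (by simp) (h.trans h0.symm) <;> simp at e

theorem comm_tab : ∀ r ∈ [39, 40, 44, 45, 46, 47], ∀ s ∈ [39, 40, 44, 45, 46, 47],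
    eqv 100 [(r, pv 0), (s, pv 1)] [(s, pv 1), (r, pv 0)] = true := by decide +kernel

theorem comm6 {r s : ℕ} (hr : r ∈ [39, 40, 44, 45, 46, 47]) (hs : s ∈ [39, 40, 44, 45, 46, 47]) (t u : K) :
    Commute (X r t) (X s u) := by
  have h := eqv_sound (comm_tab r hr s hs) (fun i => ([t, u] : List K).getD i 0)
  simpa [evW, evP, evM, pv, Commute, SemiconjBy] using h

theorem central_tab : ∀ r : Fin 24, eqv 100 [(24 + r.val, pv 0), (44, [[]]), (47, [[]])]
    [(44, [[]]), (47, [[]]), (24 + r.val, pv 0)] = true := by decide +kernel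

theorem zRep_eq : zRep K m = X 44 (1 : K) * X 47 1 := by
  simp [zRep, El, E_zero, O_zero, O, sO, ph_zero, ph_one, X_zero]

theorem zRep_central {u : GL chevF4.Idx K} (hu : u ∈ (factsF4.tsys K).U) : Commute u (zRep K m) := by
  obtain ⟨f, rfl⟩ := (factsF4.tsys K).exists_prodOver factsF4.closedList_posL hu
  refine Commute.list_prod_left _ _ fun x hx => ?_
  obtain ⟨r, hr, rfl⟩ := List.mem_map.1 hx
  rw [posL_F4, List.mem_map] at hr
  obtain ⟨i, hi, rfl⟩ := hr
  have h := eqv_sound (central_tab ⟨i, List.mem_range.1 hi⟩) (fun _ => f (24 + i))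
  simp [evW, evP, evM, pv] at h
  show X (24 + i) (f (24 + i)) * zRep K m = zRep K m * X (24 + i) (f (24 + i))
  rw [zRep_eq, h, mul_assoc]

/-- Two words differ in one coordinate. -/
def sep (v w : Word) (i : ℕ) : Bool :=
  match coords 20000 v, coords 20000 w with
  | some V, some W => (V.getD i []).isEmpty && (padd (W.getD i []) [[]]).isEmpty
  | _, _ => false

theorem sep_sound {v w : Word} {i : ℕ} (hi : i < 24) (h : sep v w i = true) (env env' : ℕ → K) :
    evW env v ≠ evW env' w := by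
  unfold sep at h
  split at h
  · rename_i V W hV hW
    rw [Bool.and_eq_true] at h
    intro he
    rw [coords_spec env hV, coords_spec env' hW] at he
    have h3 := factsF4.prodOver_inj factsF4.closedList_posL he (24 + i)
      (by rw [posL_F4, List.mem_map]; exact ⟨i, List.mem_range.2 hi, rfl⟩)
    simp only [Nat.add_sub_cancel_left] at h3
    have h4 := evP_nil env' h.2
    rw [evP_padd, CharTwo.add_eq_zero] at h4
    rw [evP_nil env h.1, h4] at h3
    simp [evP, evM] at h3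
  · simp at h

/-- The root, or a harmless one. -/
def cl (r : ℕ) : ℕ := if r < 24 then 24 else r

/-- The image of a root under a listed Weyl element. -/
def im (w : List ℕ) (r : ℕ) : ℕ := actL (orbWord chevF4 Os w) r

include S in
theorem exists_ws {w : factsF4.weyl} (hw : S.T.PiFix w) :
    ∃ ω ∈ ws, w = factsF4.refSys.pr (orbWord chevF4 Os ω) ∧
      ∀ r : Fin chevF4.nroots, (w • r : Fin chevF4.nroots).val = im ω r.val := by
  obtain ⟨a, ha⟩ := (S.data.piMap_bij okPi_ws).2 ⟨w, hw⟩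
  have e : w = factsF4.refSys.pr (orbWord chevF4 Os (ws.get a)) := (congrArg Subtype.val ha).symm
  exact ⟨ws.get a, List.get_mem _ _, e, fun r => by rw [e, actL_val]; rfl⟩

include S in
theorem conj_root {w : factsF4.weyl} {a : GL chevF4.Idx K} (ha : a ∈ (factsF4.tsys K).H) {ω : List ℕ}
    (hω : ∀ r : Fin chevF4.nroots, (w • r : Fin chevF4.nroots).val = im ω r.val) {r : ℕ} (hr : r < 48) {t : K}
    (hneg : im ω r < 24 → t = 0) :
    ∃ e : K, MulAut.conj (a * (factsF4.tsys K).nW w) (X r t) = X (cl (im ω r)) e := by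
  have hr' : r < chevF4.nroots := hr
  obtain ⟨e, -, he⟩ := factsF4.nW_conj (F := K) w ⟨r, hr'⟩
  by_cases h : im ω r < 24
  · exact ⟨0, by rw [hneg h, X_zero, X_zero, map_one]⟩
  obtain ⟨v, hv⟩ := ((factsF4.tsys K).H_conj_X ha (show im ω r < chevF4.nroots by
    rw [← hω ⟨r, hr'⟩]; exact Fin.isLt _) (e * t)).1
  refine ⟨v, ?_⟩
  rw [cl, if_neg h, MulAut.conj_apply, show a * (factsF4.tsys K).nW w * X r t * (a * (factsF4.tsys K).nW w)⁻¹ =
    a * ((factsF4.tsys K).nW w * X r t * ((factsF4.tsys K).nW w)⁻¹) * a⁻¹ by group,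
    show (factsF4.tsys K).nW w * X r t * ((factsF4.tsys K).nW w)⁻¹ = X (im ω r) (e * t) by rw [← hω ⟨r, hr'⟩]; exact he t]
  rw [factsF4.tsys_x] at hv
  exact hv

include S in
theorem pos_image {w : factsF4.weyl} {a : GL chevF4.Idx K} (ha : a ∈ (factsF4.tsys K).H) {ω : List ℕ}
    (hω : ∀ r : Fin chevF4.nroots, (w • r : Fin chevF4.nroots).val = im ω r.val) {ps : List (ℕ × K)}
    (hnd : (ps.map Prod.fst).Nodup) (hsub : ∀ r ∈ ps.map Prod.fst, r ∈ [39, 40, 44, 45, 46, 47])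
    (hU : MulAut.conj (a * (factsF4.tsys K).nW w) (ps.map fun p => X p.1 p.2).prod ∈ (factsF4.tsys K).U)
    {p : ℕ × K} (hp : p ∈ ps) (h : im ω p.1 < 24) : p.2 = 0 := by
  by_contra hp0
  have hlt : ∀ r ∈ [39, 40, 44, 45, 46, 47], 24 ≤ r ∧ r < 48 := by decide
  have hl := hlt _ (hsub _ (List.mem_map.2 ⟨p, hp, rfl⟩))
  have h1 := (factsF4.tsys K).H_conj_US (inv_mem ha) TorusSys.posL_lt hU
  rw [MulAut.conj_apply, show ∀ n P : GL chevF4.Idx K, a⁻¹ * (a * n * P * (a * n)⁻¹) * a⁻¹⁻¹ = n * P * n⁻¹ from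
    fun n P => by group] at h1
  have h2 := Cfsg.Agent.Small.C2Inv.image_coef factsF4 factsF4.closedList_posL hnd
    (fun q hq => hlt _ (hsub _ (List.mem_map.2 ⟨q, hq, rfl⟩))) (fun r hr s hs t u => comm6 (hsub r hr) (hsub s hs) t u)
    h1 hp hl.2 hp0
  rw [hω] at h2
  simp only at h2
  have h3 := (Facts.mem_posL.1 h2).1
  rw [show chevF4.nroots / 2 = 24 from rfl] at h3
  omega

theorem tab_zp : ∀ ω ∈ ws, 24 ≤ im ω 44 → 24 ≤ im ω 47 →
    sep [(cl (im ω 44), pv 0), (cl (im ω 47), pv 1)] (wEl gen ++ wEl pP ++ (wEl gen).reverse) 15 = true := by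
  decide +kernel

theorem tab_zz : ∀ ω ∈ ws, 24 ≤ im ω 44 → 24 ≤ im ω 47 → ω ∈ [([] : List ℕ), [1]] ∨
    sep [(cl (im ω 44), pv 0), (cl (im ω 47), pv 1)] (wEl zP) 20 = true := by
  decide +kernel

theorem tab_pp : ∀ ω ∈ ws, 24 ≤ im ω 39 → 24 ≤ im ω 45 → ω ∈ [([] : List ℕ), [0]] ∨
    sep [(cl (im ω 40), pv 0), (cl (im ω 46), pv 1), (cl (im ω 39), pv 2), (cl (im ω 45), pv 3),
      (cl (im ω 44), pv 4), (cl (im ω 47), pv 5)] (wEl gen ++ wEl pP ++ (wEl gen).reverse) 15 = true := by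
  decide +kernel

include S in
theorem mid_step {l : List K} (hl : l.length = 12) : El m l * pMid K m * (El m l)⁻¹ =
    evW (envL m l) (wEl gen ++ wEl pP ++ (wEl gen).reverse) := by
  rw [evW_append, evW_append, evW_reverse, ev_wEl S, gen_eval S hl, pMid_word S]

include S in
theorem z_image {w : factsF4.weyl} {a : GL chevF4.Idx K} (ha : a ∈ (factsF4.tsys K).H) {ω : List ℕ}
    (hω : ∀ r : Fin chevF4.nroots, (w • r : Fin chevF4.nroots).val = im ω r.val)
    (hU : MulAut.conj (a * (factsF4.tsys K).nW w) (zRep K m) ∈ (factsF4.tsys K).U) :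
    24 ≤ im ω 44 ∧ 24 ≤ im ω 47 ∧ ∃ es : List K, MulAut.conj (a * (factsF4.tsys K).nW w) (zRep K m) =
      evW (fun i => es.getD i 0) [(cl (im ω 44), pv 0), (cl (im ω 47), pv 1)] := by
  have hz : zRep K m = (([(44, 1), (47, 1)] : List (ℕ × K)).map fun p => X p.1 p.2).prod := by
    rw [zRep_eq]; simp
  rw [hz] at hU
  have key := fun p hp => pos_image S ha hω (ps := [(44, (1 : K)), (47, 1)]) (by simp) (by simp) hU (p := p) hp
  have h1 : 24 ≤ im ω 44 := le_of_not_gt fun h => one_ne_zero (key (44, 1) (by simp) h)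
  have h2 : 24 ≤ im ω 47 := le_of_not_gt fun h => one_ne_zero (key (47, 1) (by simp) h)
  refine ⟨h1, h2, ?_⟩
  obtain ⟨e1, he1⟩ := conj_root S (w := w) ha hω (r := 44) (t := (1 : K)) (by norm_num) fun h => absurd h1 (by omega)
  obtain ⟨e2, he2⟩ := conj_root S (w := w) ha hω (r := 47) (t := (1 : K)) (by norm_num) fun h => absurd h2 (by omega)
  refine ⟨[e1, e2], ?_⟩
  rw [zRep_eq, map_mul, he1, he2]
  simp [evW, evP, evM, pv]

include S in
theorem bruhat_form {g : GL chevF4.Idx K} (hg : g ∈ twistedF4 K (2 ^ m)) :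
    ∃ (ω : List ℕ) (u n v : GL chevF4.Idx K), ω ∈ ws ∧ u ∈ (factsF4.tsys K).U ∧ u ∈ twistedF4 K (2 ^ m) ∧
      v ∈ (factsF4.tsys K).U ∧ v ∈ twistedF4 K (2 ^ m) ∧ g = u * n * v ∧
      ∃ (w : factsF4.weyl) (a : GL chevF4.Idx K), n = a * (factsF4.tsys K).nW w ∧ a ∈ (factsF4.tsys K).H ∧
        n ∈ twistedF4 K (2 ^ m) ∧ v ∈ (factsF4.tsys K).US (TorusSys.invList w) ∧
        w = factsF4.refSys.pr (orbWord chevF4 Os ω) ∧
        ∀ r : Fin chevF4.nroots, (w • r : Fin chevF4.nroots).val = im ω r.val := by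
  obtain ⟨w, hw, u, hu, huG, a, ha, hn, v, hv, hvG, rfl⟩ := S.data.decomp hg
  obtain ⟨ω, hω, e1, e2⟩ := exists_ws S hw
  exact ⟨ω, u, _, v, hω, hu, huG, CommSys.US_mono _ (fun r hr => Facts.mem_posL.2
    ((TorusSys.closed_invList w).mem_pos r hr)) hv, hvG, rfl, w, a, rfl, ha, hn, hv, e1, e2⟩

include S in
theorem not_conj {g : GL chevF4.Idx K} (hg : g ∈ twistedF4 K (2 ^ m)) : g * zRep K m * g⁻¹ ≠ pMid K m := by
  intro h
  obtain ⟨ω, u, n, v, hω, hu, huG, hv, -, rfl, w, a, rfl, ha, -, -, -, e2⟩ := bruhat_form S hg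
  obtain ⟨l, hl, he⟩ := exists_El S (inv_mem hu) (S.le_fix (inv_mem huG))
  have h1 : MulAut.conj (a * (factsF4.tsys K).nW w) (zRep K m) = El m l * pMid K m * (El m l)⁻¹ := by
    rw [← he, inv_inv, ← h, MulAut.conj_apply]
    have hz : v * zRep K m = zRep K m * v := zRep_central hv
    calc a * (factsF4.tsys K).nW w * zRep K m * (a * (factsF4.tsys K).nW w)⁻¹
        = a * (factsF4.tsys K).nW w * (zRep K m * v) * v⁻¹ * (a * (factsF4.tsys K).nW w)⁻¹ := by group
      _ = _ := by rw [← hz]; group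
  obtain ⟨h44, h47, es, hes⟩ := z_image S ha e2 (by
    rw [h1]; exact mul_mem (mul_mem (El_mem S l).1 (El_mem S _).1) (inv_mem (El_mem S l).1))
  rw [hes, mid_step S hl] at h1
  exact sep_sound (by norm_num) (tab_zp ω hω h44 h47) _ _ h1

include S in
theorem not_conj_reps {g : GL chevF4.Idx K} (hg : g ∈ twistedF4 K (2 ^ m)) : g * zRep K m * g⁻¹ ≠ pRep K m := by
  intro h
  obtain ⟨x, hx, he⟩ := pMid_ct S
  refine not_conj S (mul_mem (inv_mem hx) hg) ?_
  rw [show x⁻¹ * g * zRep K m * (x⁻¹ * g)⁻¹ = x⁻¹ * (g * zRep K m * g⁻¹) * x by group, h, ← he]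
  group

include S in
theorem cent_z {g : GL chevF4.Idx K} (hg : g ∈ twistedF4 K (2 ^ m)) (hc : Commute g (zRep K m)) :
    ∃ (u n v : GL chevF4.Idx K) (ω : List ℕ), ω ∈ [([] : List ℕ), [1]] ∧ u ∈ (factsF4.tsys K).U ∧
      u ∈ twistedF4 K (2 ^ m) ∧ v ∈ (factsF4.tsys K).U ∧ v ∈ twistedF4 K (2 ^ m) ∧ g = u * n * v ∧
      ∃ a ∈ (factsF4.tsys K).H, n = a * (factsF4.tsys K).nW (factsF4.refSys.pr (orbWord chevF4 Os ω)) := by
  obtain ⟨ω, u, n, v, hω, hu, huG, hv, hvG, rfl, w, a, rfl, ha, -, -, e1, e2⟩ := bruhat_form S hg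
  have h1 : MulAut.conj (a * (factsF4.tsys K).nW w) (zRep K m) = zRep K m := by
    rw [MulAut.conj_apply]
    have hz : v * zRep K m = zRep K m * v := zRep_central hv
    have hz' : u * zRep K m = zRep K m * u := zRep_central hu
    calc a * (factsF4.tsys K).nW w * zRep K m * (a * (factsF4.tsys K).nW w)⁻¹
        = u⁻¹ * (u * (a * (factsF4.tsys K).nW w) * (zRep K m * v)) * v⁻¹ * (a * (factsF4.tsys K).nW w)⁻¹ := by group
      _ = u⁻¹ * (u * (a * (factsF4.tsys K).nW w) * v * zRep K m) * v⁻¹ * (a * (factsF4.tsys K).nW w)⁻¹ := by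
          rw [← hz]; group
      _ = u⁻¹ * (zRep K m * u) := by rw [hc.eq]; group
      _ = zRep K m := by rw [← hz']; group
  obtain ⟨h44, h47, es, hes⟩ := z_image S ha e2 (by rw [h1]; exact (El_mem S _).1)
  rcases tab_zz ω hω h44 h47 with h | h
  · exact ⟨u, _, v, ω, h, hu, huG, hv, hvG, rfl, a, ha, by rw [e1]⟩
  · rw [hes, ← zRep_word S []] at h1
    exact absurd h1 (sep_sound (by norm_num) h _ _)

theorem q_word : eqv 20000 (wEl gen ++ wEl pP ++ (wEl gen).reverse)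
    (wEl [[], [], [], [], [], [[2]], [[]], [], [[20]], [], [], []]) = true := by decide +kernel

include S in
theorem cent_p {g : GL chevF4.Idx K} (hg : g ∈ twistedF4 K (2 ^ m)) (hc : Commute g (pMid K m)) :
    ∃ (u n v : GL chevF4.Idx K) (ω : List ℕ), ω ∈ [([] : List ℕ), [0]] ∧ u ∈ (factsF4.tsys K).U ∧
      u ∈ twistedF4 K (2 ^ m) ∧ v ∈ (factsF4.tsys K).U ∧ v ∈ twistedF4 K (2 ^ m) ∧ g = u * n * v ∧
      ∃ a ∈ (factsF4.tsys K).H, n = a * (factsF4.tsys K).nW (factsF4.refSys.pr (orbWord chevF4 Os ω)) := by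
  obtain ⟨ω, u, n, v, hω, hu, huG, hv, hvG, rfl, w, a, rfl, ha, -, -, e1, e2⟩ := bruhat_form S hg
  obtain ⟨l, hl, he⟩ := exists_El S (inv_mem hu) (S.le_fix (inv_mem huG))
  obtain ⟨l', hl', he'⟩ := exists_El S hv (S.le_fix hvG)
  obtain ⟨c, hcd⟩ : ∃ c, c = l'.getD 1 0 := ⟨_, rfl⟩
  obtain ⟨d, hd⟩ : ∃ d, d = l'.getD 10 0 := ⟨_, rfl⟩
  have hQ : v * pMid K m * v⁻¹ =
      (([(40, d), (46, ph m d), (39, 1), (45, 1), (44, c), (47, ph m c)] : List (ℕ × K)).map fun p => X p.1 p.2).prod := by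
    rw [he', mid_step S hl', eqv_sound q_word, ev_wEl S]
    simp [El, E_zero, O_zero, O, E, sO, sE, ph_zero, ph_one, X_zero, evP, evM, envL, hcd, hd, mul_assoc]
  have h1 : MulAut.conj (a * (factsF4.tsys K).nW w) (v * pMid K m * v⁻¹) = El m l * pMid K m * (El m l)⁻¹ := by
    rw [MulAut.conj_apply, ← he, inv_inv]
    calc a * (factsF4.tsys K).nW w * (v * pMid K m * v⁻¹) * (a * (factsF4.tsys K).nW w)⁻¹
        = u⁻¹ * (u * (a * (factsF4.tsys K).nW w) * v * pMid K m) * v⁻¹ * (a * (factsF4.tsys K).nW w)⁻¹ := by group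
      _ = u⁻¹ * (pMid K m * (u * (a * (factsF4.tsys K).nW w) * v)) * v⁻¹ * (a * (factsF4.tsys K).nW w)⁻¹ := by
          rw [hc.eq]
      _ = u⁻¹ * pMid K m * u := by group
  rw [hQ] at h1
  have key := fun p hp => pos_image S ha e2
    (ps := [(40, d), (46, ph m d), (39, (1 : K)), (45, 1), (44, c), (47, ph m c)]) (by simp) (by simp)
    (by rw [h1]; exact mul_mem (mul_mem (El_mem S l).1 (El_mem S _).1) (inv_mem (El_mem S l).1)) (p := p) hp
  have h39 : 24 ≤ im ω 39 := le_of_not_gt fun h => one_ne_zero (key (39, 1) (by simp) h)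
  have h45 : 24 ≤ im ω 45 := le_of_not_gt fun h => one_ne_zero (key (45, 1) (by simp) h)
  obtain ⟨f1, g1⟩ := conj_root S (w := w) ha e2 (r := 40) (t := d) (by norm_num) (key (40, d) (by simp))
  obtain ⟨f2, g2⟩ := conj_root S (w := w) ha e2 (r := 46) (t := ph m d) (by norm_num) (key (46, ph m d) (by simp))
  obtain ⟨f3, g3⟩ := conj_root S (w := w) ha e2 (r := 39) (t := (1 : K)) (by norm_num) (key (39, 1) (by simp))
  obtain ⟨f4, g4⟩ := conj_root S (w := w) ha e2 (r := 45) (t := (1 : K)) (by norm_num) (key (45, 1) (by simp))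
  obtain ⟨f5, g5⟩ := conj_root S (w := w) ha e2 (r := 44) (t := c) (by norm_num) (key (44, c) (by simp))
  obtain ⟨f6, g6⟩ := conj_root S (w := w) ha e2 (r := 47) (t := ph m c) (by norm_num) (key (47, ph m c) (by simp))
  rcases tab_pp ω hω h39 h45 with h | h
  · exact ⟨u, _, v, ω, h, hu, huG, hv, hvG, rfl, a, ha, by rw [e1]⟩
  · exfalso
    refine sep_sound (by norm_num) h (fun i => ([f1, f2, f3, f4, f5, f6] : List K).getD i 0) (envL m l) ?_
    rw [← mid_step S hl, ← h1]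
    generalize MulAut.conj (a * (factsF4.tsys K).nW w) = φ at g1 g2 g3 g4 g5 g6 ⊢
    rw [List.map_cons, List.map_cons, List.map_cons, List.map_cons, List.map_cons, List.map_cons, List.map_nil,
      List.prod_cons, List.prod_cons, List.prod_cons, List.prod_cons, List.prod_cons, List.prod_cons, List.prod_nil,
      mul_one, map_mul, map_mul, map_mul, map_mul, map_mul, g1, g2, g3, g4, g5, g6]
    simp [evW, evP, evM, pv, mul_assoc]

end Cfsg.Agent.Small.C2Inv.F4
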