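import Cfsg.Agent.Lib.Small.Char2Invol.F4.Struct

/-!
The two classes of involutions of ²F₄(q): the conjugation steps.
-/

set_option autoImplicit false
set_option maxRecDepth 4000
set_option linter.unusedSectionVars false

namespace Cfsg.Agent.Small.C2Inv.F4

open Cfsg.Lie Cfsg.Agent.Lie
open Cfsg.Agent.Lie.F4 (Setup Os)
open scoped MatrixGroups

variable {K : Type*} [Field K] [CharP K 2] [Fintype K] {m : ℕ} (S : Setup K m)

/-- Conjugate inside ²F₄(q). -/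
def CT (K : Type*) [Field K] (m : ℕ) (a a' : GL chevF4.Idx K) : Prop :=
  ∃ g ∈ twistedF4 K (2 ^ m), g * a * g⁻¹ = a'

theorem CT.refl (a : GL chevF4.Idx K) : CT K m a a := ⟨1, one_mem _, by simp⟩

theorem CT.trans {a b c : GL chevF4.Idx K} (h : CT K m a b) (h' : CT K m b c) : CT K m a c := by
  obtain ⟨g, hg, rfl⟩ := h
  obtain ⟨g', hg', rfl⟩ := h'
  exact ⟨g' * g, mul_mem hg' hg, by group⟩

theorem CT.symm {a b : GL chevF4.Idx K} (h : CT K m a b) : CT K m b a := by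
  obtain ⟨g, hg, rfl⟩ := h
  exact ⟨g⁻¹, inv_mem hg, by group⟩

include S in
theorem cj_E (d : ℕ) (a : Poly) {P Q : List Poly} (l : List K)
    (h : eqv 20000 (wE d a ++ wEl P ++ (wE d a).reverse) (wEl Q) = true) :
    CT K m (El m (P.map (evP (envL m l)))) (El m (Q.map (evP (envL m l)))) := by
  refine ⟨evW (envL m l) (wE d a), ?_, ?_⟩
  · rw [ev_wE S]; exact (E_mem S _ _).2
  · rw [← ev_wEl S, ← ev_wEl S]; exact conj_eqv h _

include S in
theorem cj_O (d : ℕ) (a b : Poly) {P Q : List Poly} (l : List K)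
    (h : eqv 20000 (wO d a b ++ wEl P ++ (wO d a b).reverse) (wEl Q) = true) :
    CT K m (El m (P.map (evP (envL m l)))) (El m (Q.map (evP (envL m l)))) := by
  refine ⟨evW (envL m l) (wO d a b), ?_, ?_⟩
  · rw [ev_wO S]; exact (O_mem S _ _ _).2
  · rw [← ev_wEl S, ← ev_wEl S]; exact conj_eqv h _

/-- The words without trivial factors. -/
def trimW (w : Word) : Word := w.filter fun a => !a.2.isEmpty

theorem evW_trim (env : ℕ → K) : ∀ w : Word, evW env (trimW w) = evW env w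
  | [] => rfl
  | (r, p) :: w => by
    have ih := evW_trim env w
    rw [trimW] at ih ⊢
    by_cases hp : p.isEmpty = true
    · rw [List.filter_cons_of_neg (by simp [hp]), ih, evW, evP_nil env hp, X_zero, one_mul]
    · rw [List.filter_cons_of_pos (by simp [hp]), evW, evW, ih]

include S in
theorem cj_N {k : ℕ} (hk : k < 2) {P Q : List Poly} (l : List K)
    (h : ((trimW (wEl P)).all fun a => decide (a.1 < 48)) = true ∧
      eqv 20000 (wW k (trimW (wEl P))) (wEl Q) = true) :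
    CT K m (El m (P.map (evP (envL m l)))) (El m (Q.map (evP (envL m l)))) := by
  refine ⟨nO k, nO_mem S hk, ?_⟩
  rw [← ev_wEl S, ← ev_wEl S, ← evW_trim (envL m l) (wEl P), nO_word k _ _ h.1, eqv_sound h.2]

include S in
theorem s_L7_a5 (z1 a2 a3 z3 a4 a5 z5 a6 z7 A : K) : CT K m (El m ([0, 0, z1, a2, a3, z3, a4, a5, z5, a6, 0, z7] : List K))
    (El m ([0, 0, z1 + a3 * (A) + a5 * (ph m A) + z7 * (A * (ph m A)), a2 + ph m a5 * (A) + a6 * (ph m A) + ph m z7 * (A * (ph m A)), a3 + z7 * (ph m A), ph m a3 * (z7 * (ph m A)) + z3 + a5 * (ph m a5 * (A)) + a5 * (a6 * (ph m A)) + a5 * (ph m z7 * (A * (ph m A))) + z5 * (A) + a6 * (z7 * (A * (ph m A))), a4 + a5 * (z7 * (ph m A)) + ph m a6 * (A) + z7 * (z7 * (A * (ph m A))), a5 + z7 * (A), ph m a5 * (z7 * (A)) + z5 + a6 * (z7 * (ph m A)) + z7 * (ph m z7 * (A * (ph m A))), a6 + ph m z7 * (A), 0, z7] : List K)) := by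
  have h := cj_E S 0 [[24]] (P := [[], [], [[4]], [[6]], [[8]], [[10]], [[12]], [[14]], [[16]], [[18]], [], [[22]]])
    (Q := [[], [], [[4], [8, 24], [14, 25], [22, 24, 25]], [[6], [15, 24], [18, 25], [23, 24, 25]], [[8], [22, 25]], [[9, 22, 25], [10], [14, 15, 24], [14, 18, 25], [14, 23, 24, 25], [16, 24], [18, 22, 24, 25]], [[12], [14, 22, 25], [19, 24], [22, 22, 24, 25]], [[14], [22, 24]], [[15, 22, 24], [16], [18, 22, 25], [22, 23, 24, 25]], [[18], [23, 24]], [], [[22]]]) [0, 0, z1, a2, a3, z3, a4, a5, z5, a6, 0, z7, A, 0] (by decide +kernel)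
  simpa [envL, evP, evM, ph_zero, add_assoc] using h

include S in
theorem s_L7_O1 (z3 a4 z5 a6 z7 A B : K) : CT K m (El m ([0, 0, 0, 0, 0, z3, a4, 0, z5, a6, 0, z7] : List K))
    (El m ([0, 0, 0, 0, 0, z3 + a4 * (A) + a6 * (B) + z7 * (A * (A * (ph m A))) + z7 * (A * (B)) + z7 * (ph m B), a4 + a6 * (ph m A) + z7 * (A * (ph m A)) + z7 * (B), 0, z5 + ph m a6 * (A) + ph m z7 * (B), a6 + z7 * (A), 0, z7] : List K)) := by
  have h := cj_O S 1 [[24]] [[26]] (P := [[], [], [], [], [], [[10]], [[12]], [], [[16]], [[18]], [], [[22]]])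
    (Q := [[], [], [], [], [], [[10], [12, 24], [18, 26], [22, 24, 24, 25], [22, 24, 26], [22, 27]], [[12], [18, 25], [22, 24, 25], [22, 26]], [], [[16], [19, 24], [23, 26]], [[18], [22, 24]], [], [[22]]]) [0, 0, 0, 0, 0, z3, a4, 0, z5, a6, 0, z7, A, B] (by decide +kernel)
  simpa [envL, evP, evM, ph_zero, add_assoc] using h

include S in
theorem s_L7_E2 (z5 a6 z7 A : K) : CT K m (El m ([0, 0, 0, 0, 0, 0, 0, 0, z5, a6, 0, z7] : List K))
    (El m ([0, 0, 0, 0, 0, 0, 0, 0, z5 + z7 * (A), a6, 0, z7] : List K)) := by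
  have h := cj_E S 2 [[24]] (P := [[], [], [], [], [], [], [], [], [[16]], [[18]], [], [[22]]])
    (Q := [[], [], [], [], [], [], [], [], [[16], [22, 24]], [[18]], [], [[22]]]) [0, 0, 0, 0, 0, 0, 0, 0, z5, a6, 0, z7, A, 0] (by decide +kernel)
  simpa [envL, evP, evM, ph_zero, add_assoc] using h

include S in
theorem s_sa1 (a6 z7 : K) : CT K m (El m ([0, 0, 0, 0, 0, 0, 0, 0, 0, a6, 0, z7] : List K))
    (El m ([0, 0, z7, a6, 0, 0, 0, 0, 0, 0, 0, 0] : List K)) := by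
  have h := cj_N S (k := 0) (by norm_num) (P := [[], [], [], [], [], [], [], [], [], [[18]], [], [[22]]])
    (Q := [[], [], [[22]], [[18]], [], [], [], [], [], [], [], []]) [0, 0, 0, 0, 0, 0, 0, 0, 0, a6, 0, z7, 0, 0] (by decide +kernel)
  simpa [envL, evP, evM, ph_zero, add_assoc] using h

include S in
theorem s_sb1 (z1 a2 : K) : CT K m (El m ([0, 0, z1, a2, 0, 0, 0, 0, 0, 0, 0, 0] : List K))
    (El m ([0, 0, 0, 0, 0, 0, a2, 0, z1, 0, 0, 0] : List K)) := by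
  have h := cj_N S (k := 1) (by norm_num) (P := [[], [], [[4]], [[6]], [], [], [], [], [], [], [], []])
    (Q := [[], [], [], [], [], [], [[6]], [], [[4]], [], [], []]) [0, 0, z1, a2, 0, 0, 0, 0, 0, 0, 0, 0, 0, 0] (by decide +kernel)
  simpa [envL, evP, evM, ph_zero, add_assoc] using h

include S in
theorem s_clr (a4 z5 A : K) : CT K m (El m ([0, 0, 0, 0, 0, 0, a4, 0, z5, 0, 0, 0] : List K))
    (El m ([0, 0, 0, 0, 0, 0, a4, 0, a4 * (A) + z5, 0, 0, 0] : List K)) := by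
  have h := cj_O S 7 [[24]] [] (P := [[], [], [], [], [], [], [[12]], [], [[16]], [], [], []])
    (Q := [[], [], [], [], [], [], [[12]], [], [[12, 24], [16]], [], [], []]) [0, 0, 0, 0, 0, 0, a4, 0, z5, 0, 0, 0, A, 0] (by decide +kernel)
  simpa [envL, evP, evM, ph_zero, add_assoc] using h

include S in
theorem s_sa (z1 a2 z3 a4 z5 a6 : K) : CT K m (El m ([0, 0, z1, a2, 0, z3, a4, 0, z5, a6, 0, 0] : List K))
    (El m ([0, 0, 0, a6, 0, z5, a4, 0, z1 * (a6) + z3, a2, 0, z1] : List K)) := by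
  have h := cj_N S (k := 0) (by norm_num) (P := [[], [], [[4]], [[6]], [], [[10]], [[12]], [], [[16]], [[18]], [], []])
    (Q := [[], [], [], [[18]], [], [[16]], [[12]], [], [[4, 18], [10]], [[6]], [], [[4]]]) [0, 0, z1, a2, 0, z3, a4, 0, z5, a6, 0, 0, 0, 0] (by decide +kernel)
  simpa [envL, evP, evM, ph_zero, add_assoc] using h

include S in
theorem s_sb (a2 z3 a4 z5 a6 : K) : CT K m (El m ([0, 0, 0, a2, 0, z3, a4, 0, z5, a6, 0, 0] : List K))
    (El m ([a6, 0, z5, a4, 0, z3, a2, 0, 0, 0, 0, 0] : List K)) := by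
  have h := cj_N S (k := 1) (by norm_num) (P := [[], [], [], [[6]], [], [[10]], [[12]], [], [[16]], [[18]], [], []])
    (Q := [[[18]], [], [[16]], [[12]], [], [[10]], [[6]], [], [], [], [], []]) [0, 0, 0, a2, 0, z3, a4, 0, z5, a6, 0, 0, 0, 0] (by decide +kernel)
  simpa [envL, evP, evM, ph_zero, add_assoc] using h

include S in
theorem s_LP_a1 (a0 a1 z1 a2 a3 z3 a4 a5 z5 a6 A : K) : CT K m (El m ([a0, a1, z1, a2, a3, z3, a4, a5, z5, a6, 0, 0] : List K))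
    (El m ([a0, a0 * (A) + a1, a0 * (ph m a0 * (A * (ph m A))) + ph m a0 * (a1 * (ph m A)) + z1, a0 * (ph m a0 * (A * (A * (ph m A)))) + z1 * (A) + a2, ph m a1 * (A) + a3, a0 * (a0 * (ph m a0 * (A * (A * (A * (ph m A * (ph m A))))))) + a0 * (ph m a0 * (a1 * (A * (A * (ph m A * (ph m A)))))) + a0 * (a2 * (A * (ph m A))) + a1 * (a1 * (ph m a1 * (A * (ph m A)))) + a1 * (a1 * (a3 * (ph m A))) + a1 * (z1 * (A * (ph m A))) + a1 * (a2 * (ph m A)) + ph m a2 * (A) + z3, a0 * (ph m a0 * (A * (A * (ph m A * (ph m A))))) + a0 * (a3 * (A * (ph m A))) + a1 * (ph m a1 * (A * (ph m A))) + a1 * (a3 * (ph m A)) + z1 * (A * (ph m A)) + a2 * (ph m A) + a4, a0 * (A * (ph m A)) + a1 * (ph m A) + a5, a0 * (ph m a1 * (A * (A * (A * (ph m A))))) + a0 * (a3 * (A * (A * (ph m A)))) + ph m a0 * (a5 * (A * (A * (ph m A)))) + ph m a1 * (a5 * (A * (A))) + z1 * (A * (A * (ph m A))) + a4 * (A) + z5, a0 * (A * (A * (ph m A))) + a5 * (A) +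 a6, 0, 0] : List K)) := by
  have h := cj_O S 7 [[24]] [] (P := [[[0]], [[2]], [[4]], [[6]], [[8]], [[10]], [[12]], [[14]], [[16]], [[18]], [], []])
    (Q := [[[0]], [[0, 24], [2]], [[0, 1, 24, 25], [1, 2, 25], [4]], [[0, 1, 24, 24, 25], [4, 24], [6]], [[3, 24], [8]], [[0, 0, 1, 24, 24, 24, 25, 25], [0, 1, 2, 24, 24, 25, 25], [0, 6, 24, 25], [2, 2, 3, 24, 25], [2, 2, 8, 25], [2, 4, 24, 25], [2, 6, 25], [7, 24], [10]], [[0, 1, 24, 24, 25, 25], [0, 8, 24, 25], [2, 3, 24, 25], [2, 8, 25], [4, 24, 25], [6, 25], [12]], [[0, 24, 25], [2, 25], [14]], [[0, 3, 24, 24, 24, 25], [0, 8, 24, 24, 25], [1, 14, 24, 24, 25], [3, 14, 24, 24], [4, 24, 24, 25], [12, 24], [16]], [[0, 24, 24, 25], [14, 24], [18]], [], []]) [a0, a1, z1, a2, a3, z3, a4, a5, z5, a6, 0, 0, A, 0] (by decide +kernel)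
  simpa [envL, evP, evM, ph_zero, add_assoc] using h

include S in
theorem s_LP_a3 (a0 z1 a2 a3 z3 a4 a5 z5 a6 B : K) : CT K m (El m ([a0, 0, z1, a2, a3, z3, a4, a5, z5, a6, 0, 0] : List K))
    (El m ([a0, 0, a0 * (ph m a0 * (B)) + z1, a0 * (ph m a0 * (ph m B)) + a2, ph m a0 * (B) + a3, a0 * (a0 * (a3 * (ph m B))) + a0 * (z1 * (ph m B)) + a0 * (a2 * (B)) + ph m z1 * (B) + z3, a0 * (ph m a0 * (B * (B))) + a0 * (a3 * (B)) + z1 * (B) + a4, a0 * (B) + a5, a0 * (ph m a0 * (B * (ph m B))) + a0 * (a3 * (ph m B)) + ph m a0 * (a5 * (ph m B)) + z1 * (ph m B) + a2 * (B) + z5, a0 * (ph m B) + a6, 0, 0] : List K)) := by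
  have h := cj_O S 7 [] [[26]] (P := [[[0]], [], [[4]], [[6]], [[8]], [[10]], [[12]], [[14]], [[16]], [[18]], [], []])
    (Q := [[[0]], [], [[0, 1, 26], [4]], [[0, 1, 27], [6]], [[1, 26], [8]], [[0, 0, 8, 27], [0, 4, 27], [0, 6, 26], [5, 26], [10]], [[0, 1, 26, 26], [0, 8, 26], [4, 26], [12]], [[0, 26], [14]], [[0, 1, 26, 27], [0, 8, 27], [1, 14, 27], [4, 27], [6, 26], [16]], [[0, 27], [18]], [], []]) [a0, 0, z1, a2, a3, z3, a4, a5, z5, a6, 0, 0, 0, B] (by decide +kernel)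
  simpa [envL, evP, evM, ph_zero, add_assoc] using h

include S in
theorem s_LP_a4 (a0 z1 a2 z3 a4 A : K) : CT K m (El m ([a0, 0, z1, a2, 0, z3, a4, 0, 0, 0, 0, 0] : List K))
    (El m ([a0, 0, z1, ph m a0 * (A) + a2, 0, z1 * (A) + z3, a0 * (ph m A) + a4, 0, 0, 0, 0, 0] : List K)) := by
  have h := cj_E S 6 [[24]] (P := [[[0]], [], [[4]], [[6]], [], [[10]], [[12]], [], [], [], [], []])
    (Q := [[[0]], [], [[4]], [[1, 24], [6]], [], [[4, 24], [10]], [[0, 25], [12]], [], [], [], [], []]) [a0, 0, z1, a2, 0, z3, a4, 0, 0, 0, 0, 0, A, 0] (by decide +kernel)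
  simpa [envL, evP, evM, ph_zero, add_assoc] using h

include S in
theorem s_LP_O5 (a0 z1 a2 z3 A B : K) : CT K m (El m ([a0, 0, z1, a2, 0, z3, 0, 0, 0, 0, 0, 0] : List K))
    (El m ([a0, 0, ph m a0 * (A) + z1, a0 * (ph m A) + a2, 0, a0 * (B) + a2 * (A) + z3, 0, 0, 0, 0, 0, 0] : List K)) := by
  have h := cj_O S 5 [[24]] [[26]] (P := [[[0]], [], [[4]], [[6]], [], [[10]], [], [], [], [], [], []])
    (Q := [[[0]], [], [[1, 24], [4]], [[0, 25], [6]], [], [[0, 26], [6, 24], [10]], [], [], [], [], [], []]) [a0, 0, z1, a2, 0, z3, 0, 0, 0, 0, 0, 0, A, B] (by decide +kernel)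
  simpa [envL, evP, evM, ph_zero, add_assoc] using h

include S in
theorem s_LP_z1 (a0 z1 A : K) : CT K m (El m ([a0, 0, z1, 0, 0, 0, 0, 0, 0, 0, 0, 0] : List K))
    (El m ([a0, 0, a0 * (A) + z1, 0, 0, 0, 0, 0, 0, 0, 0, 0] : List K)) := by
  have h := cj_O S 3 [[24]] [] (P := [[[0]], [], [[4]], [], [], [], [], [], [], [], [], []])
    (Q := [[[0]], [], [[0, 24], [4]], [], [], [], [], [], [], [], [], []]) [a0, 0, z1, 0, 0, 0, 0, 0, 0, 0, 0, 0, A, 0] (by decide +kernel)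
  simpa [envL, evP, evM, ph_zero, add_assoc] using h

end Cfsg.Agent.Small.C2Inv.F4
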