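import Cfsg.Agent.Lib.Small.Char2Invol.F4.Steps

/-!
Every involution of ²F₄(q) is conjugate to one of two representatives.
-/

set_option autoImplicit false
set_option maxRecDepth 4000
set_option linter.unusedSectionVars false

namespace Cfsg.Agent.Small.C2Inv.F4

open Cfsg.Lie Cfsg.Agent.Lie
open Cfsg.Agent.Lie.F4 (Setup Os)
open scoped MatrixGroups

variable {K : Type*} [Field K] [CharP K 2] [Fintype K] {m : ℕ} (S : Setup K m)

/-- The element with these coordinates squares to one. -/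
def Inv (m : ℕ) (l : List K) : Prop := El m l * El m l = 1

theorem Inv.of_ct {a b : List K} (h : CT K m (El m a) (El m b)) (ha : Inv m a) : Inv m b := by
  obtain ⟨g, -, he⟩ := h
  rw [Inv, ← he, show g * El m a * g⁻¹ * (g * El m a * g⁻¹) = g * (El m a * El m a) * g⁻¹ by group, ha]
  group

/-- The polynomial at a position of the square. -/
def chkSq (P : List Poly) (i : ℕ) (p : Poly) : Bool :=
  match coords 20000 (wEl P ++ wEl P) with
  | some V => (padd (V.getD i []) p).isEmpty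
  | none => false

include S in
theorem sq_eq {P : List Poly} (l : List K) (hu : Inv m (P.map (evP (envL m l)))) (i : ℕ) (hi : i < 24)
    (p : Poly) (hc : chkSq P i p = true) : evP (envL m l) p = 0 := by
  unfold chkSq at hc
  split at hc
  · rename_i V hV
    have h0 : coords 20000 ([] : Word) = some (List.replicate 24 []) := by decide +kernel
    have e := coords_inj (envL m l) hV h0 (by
      rw [evW_append, ev_wEl S]
      exact hu) i hi
    have h2 := evP_nil (envL m l) hc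
    rw [evP_padd, CharTwo.add_eq_zero] at h2
    rw [← h2, e]
    rw [List.getD_eq_getElem?_getD, List.getElem?_replicate_of_lt hi]
    rfl
  · simp at hc

include S in
theorem sq_G (a0 a1 z1 a2 a3 z3 a4 a5 z5 a6 a7 z7 : K)
    (h : Inv m ([a0, a1, z1, a2, a3, z3, a4, a5, z5, a6, a7, z7] : List K)) : a7 * (ph m a7) = 0 := by
  have h' := sq_eq S (P := [[[0]], [[2]], [[4]], [[6]], [[8]], [[10]], [[12]], [[14]], [[16]], [[18]], [[20]], [[22]]]) [a0, a1, z1, a2, a3, z3, a4, a5, z5, a6, a7, z7]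
    (by simpa [envL, evP, evM, Inv] using h) 4 (by norm_num) [[20, 21]] (by decide +kernel)
  simpa [envL, evP, evM, ph_zero, add_assoc] using h'

include S in
theorem sq_G0 (a0 a1 z1 a2 a3 z3 a4 a5 z5 a6 z7 : K)
    (h : Inv m ([a0, a1, z1, a2, a3, z3, a4, a5, z5, a6, 0, z7] : List K)) : ph m a0 * (z7) = 0 := by
  have h' := sq_eq S (P := [[[0]], [[2]], [[4]], [[6]], [[8]], [[10]], [[12]], [[14]], [[16]], [[18]], [], [[22]]]) [a0, a1, z1, a2, a3, z3, a4, a5, z5, a6, 0, z7]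
    (by simpa [envL, evP, evM, Inv] using h) 5 (by norm_num) [[1, 22]] (by decide +kernel)
  simpa [envL, evP, evM, ph_zero, add_assoc] using h'

include S in
theorem sq_G00 (a1 z1 a2 a3 z3 a4 a5 z5 a6 z7 : K)
    (h : Inv m ([0, a1, z1, a2, a3, z3, a4, a5, z5, a6, 0, z7] : List K)) : a1 * (ph m a1) = 0 := by
  have h' := sq_eq S (P := [[], [[2]], [[4]], [[6]], [[8]], [[10]], [[12]], [[14]], [[16]], [[18]], [], [[22]]]) [0, a1, z1, a2, a3, z3, a4, a5, z5, a6, 0, z7]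
    (by simpa [envL, evP, evM, Inv] using h) 12 (by norm_num) [[2, 3]] (by decide +kernel)
  simpa [envL, evP, evM, ph_zero, add_assoc] using h'

include S in
theorem sq_L7a (z1 a2 a3 z3 a4 z5 a6 z7 : K)
    (h : Inv m ([0, 0, z1, a2, a3, z3, a4, 0, z5, a6, 0, z7] : List K)) : z1 * (z7) = 0 := by
  have h' := sq_eq S (P := [[], [], [[4]], [[6]], [[8]], [[10]], [[12]], [], [[16]], [[18]], [], [[22]]]) [0, 0, z1, a2, a3, z3, a4, 0, z5, a6, 0, z7]
    (by simpa [envL, evP, evM, Inv] using h) 15 (by norm_num) [[4, 22]] (by decide +kernel)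
  simpa [envL, evP, evM, ph_zero, add_assoc] using h'

include S in
theorem sq_L7b (a2 a3 z3 a4 z5 a6 z7 : K)
    (h : Inv m ([0, 0, 0, a2, a3, z3, a4, 0, z5, a6, 0, z7] : List K)) : a3 * (ph m a3) = 0 := by
  have h' := sq_eq S (P := [[], [], [], [[6]], [[8]], [[10]], [[12]], [], [[16]], [[18]], [], [[22]]]) [0, 0, 0, a2, a3, z3, a4, 0, z5, a6, 0, z7]
    (by simpa [envL, evP, evM, Inv] using h) 20 (by norm_num) [[8, 9]] (by decide +kernel)
  simpa [envL, evP, evM, ph_zero, add_assoc] using h'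

include S in
theorem sq_L7c (a2 z3 a4 z5 a6 z7 : K)
    (h : Inv m ([0, 0, 0, a2, 0, z3, a4, 0, z5, a6, 0, z7] : List K)) : a2 * (z7) = 0 := by
  have h' := sq_eq S (P := [[], [], [], [[6]], [], [[10]], [[12]], [], [[16]], [[18]], [], [[22]]]) [0, 0, 0, a2, 0, z3, a4, 0, z5, a6, 0, z7]
    (by simpa [envL, evP, evM, Inv] using h) 16 (by norm_num) [[6, 22]] (by decide +kernel)
  simpa [envL, evP, evM, ph_zero, add_assoc] using h'

include S in
theorem sq_M1 (z1 a2 a3 z3 a4 a5 z5 a6 : K)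
    (h : Inv m ([0, 0, z1, a2, a3, z3, a4, a5, z5, a6, 0, 0] : List K)) : a3 * (a5) = 0 := by
  have h' := sq_eq S (P := [[], [], [[4]], [[6]], [[8]], [[10]], [[12]], [[14]], [[16]], [[18]], [], []]) [0, 0, z1, a2, a3, z3, a4, a5, z5, a6, 0, 0]
    (by simpa [envL, evP, evM, Inv] using h) 15 (by norm_num) [[8, 14]] (by decide +kernel)
  simpa [envL, evP, evM, ph_zero, add_assoc] using h'

include S in
theorem sq_M2 (z1 a2 a3 z3 a4 a5 z5 a6 : K)
    (h : Inv m ([0, 0, z1, a2, a3, z3, a4, a5, z5, a6, 0, 0] : List K)) : a3 * (a6) + a5 * (ph m a5) = 0 := by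
  have h' := sq_eq S (P := [[], [], [[4]], [[6]], [[8]], [[10]], [[12]], [[14]], [[16]], [[18]], [], []]) [0, 0, z1, a2, a3, z3, a4, a5, z5, a6, 0, 0]
    (by simpa [envL, evP, evM, Inv] using h) 16 (by norm_num) [[8, 18], [14, 15]] (by decide +kernel)
  simpa [envL, evP, evM, ph_zero, add_assoc] using h'

include S in
theorem sq_M3 (z1 a2 a3 z3 a4 z5 a6 : K)
    (h : Inv m ([0, 0, z1, a2, a3, z3, a4, 0, z5, a6, 0, 0] : List K)) : z1 * (a6) + a3 * (ph m a3) = 0 := by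
  have h' := sq_eq S (P := [[], [], [[4]], [[6]], [[8]], [[10]], [[12]], [], [[16]], [[18]], [], []]) [0, 0, z1, a2, a3, z3, a4, 0, z5, a6, 0, 0]
    (by simpa [envL, evP, evM, Inv] using h) 20 (by norm_num) [[4, 18], [8, 9]] (by decide +kernel)
  simpa [envL, evP, evM, ph_zero, add_assoc] using h'

include S in
theorem sq_P1 (a0 z1 a2 z3 a4 a5 z5 a6 : K)
    (h : Inv m ([a0, 0, z1, a2, 0, z3, a4, a5, z5, a6, 0, 0] : List K)) : ph m a0 * (a5) = 0 := by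
  have h' := sq_eq S (P := [[[0]], [], [[4]], [[6]], [], [[10]], [[12]], [[14]], [[16]], [[18]], [], []]) [a0, 0, z1, a2, 0, z3, a4, a5, z5, a6, 0, 0]
    (by simpa [envL, evP, evM, Inv] using h) 12 (by norm_num) [[1, 14]] (by decide +kernel)
  simpa [envL, evP, evM, ph_zero, add_assoc] using h'

include S in
theorem sq_P2 (a0 z1 a2 z3 a4 z5 a6 : K)
    (h : Inv m ([a0, 0, z1, a2, 0, z3, a4, 0, z5, a6, 0, 0] : List K)) : ph m a0 * (a6) = 0 := by
  have h' := sq_eq S (P := [[[0]], [], [[4]], [[6]], [], [[10]], [[12]], [], [[16]], [[18]], [], []]) [a0, 0, z1, a2, 0, z3, a4, 0, z5, a6, 0, 0]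
    (by simpa [envL, evP, evM, Inv] using h) 14 (by norm_num) [[1, 18]] (by decide +kernel)
  simpa [envL, evP, evM, ph_zero, add_assoc] using h'

include S in
theorem sq_P3 (a0 z1 a2 z3 a4 z5 : K)
    (h : Inv m ([a0, 0, z1, a2, 0, z3, a4, 0, z5, 0, 0, 0] : List K)) : a0 * (z5) = 0 := by
  have h' := sq_eq S (P := [[[0]], [], [[4]], [[6]], [], [[10]], [[12]], [], [[16]], [], [], []]) [a0, 0, z1, a2, 0, z3, a4, 0, z5, 0, 0, 0]
    (by simpa [envL, evP, evM, Inv] using h) 20 (by norm_num) [[0, 16]] (by decide +kernel)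
  simpa [envL, evP, evM, ph_zero, add_assoc] using h'


theorem E_zero (d : ℕ) : E m d (0 : K) = 1 := by simp [E, ph_zero, X_zero]

theorem O_zero (d : ℕ) : O m d (0 : K) 0 = 1 := by simp [O, ph_zero, X_zero]

/-- The representative long root element. -/
noncomputable def zRep (K : Type*) [Field K] (m : ℕ) : GL chevF4.Idx K :=
  El m ([0, 0, 0, 0, 0, 1, 0, 0, 0, 0, 0, 0] : List K)

/-- The representative short root element. -/
noncomputable def pRep (K : Type*) [Field K] (m : ℕ) : GL chevF4.Idx K :=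
  El m ([1, 0, 0, 0, 0, 0, 0, 0, 0, 0, 0, 0] : List K)

/-- Either class. -/
def Std (m : ℕ) (u : GL chevF4.Idx K) : Prop := CT K m u (zRep K m) ∨ CT K m u (pRep K m)

theorem Std.of_ct {u v : GL chevF4.Idx K} (h : CT K m u v) (hv : Std m v) : Std m u :=
  hv.imp h.trans h.trans

include S in
theorem ph_psi (x : K) : ph m (x ^ 2 ^ m) = x := (S.pow_twist x).1

include S in
theorem ph_ne {x : K} (h : x ≠ 0) : ph m x ≠ 0 := pow_ne_zero _ h

include S in
theorem sol (c : K) : ∃ A : K, A * (A * ph m A) = c := by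
  by_cases hc : c = 0
  · exact ⟨0, by simp [hc]⟩
  obtain ⟨s, hs⟩ := (powCoprime S.coprime_exp).surjective (Units.mk0 c hc)
  refine ⟨(s : K), ?_⟩
  have h : s ^ (2 * 2 ^ m + 2) = Units.mk0 c hc := hs
  have h' := congrArg (fun u : Kˣ => (u : K)) h
  simp only [Units.val_pow_eq_pow_val, Units.val_mk0] at h'
  rw [← h', pow_add, ph]
  ring

include S in
theorem scale_Z {v : K} (hv : v ≠ 0) : CT K m (El m ([0, 0, 0, 0, 0, v, 0, 0, 0, 0, 0, 0] : List K)) (zRep K m) := by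
  obtain ⟨t, ht⟩ : ∃ t : Kˣ, t = (Units.mk0 (ph m v) (ph_ne S hv))⁻¹ := ⟨_, rfl⟩
  refine ⟨torus chevF4 K (S.crd t 1), S.torus_mem t 1, ?_⟩
  have hp : ∀ w : K, El m ([0, 0, 0, 0, 0, w, 0, 0, 0, 0, 0, 0] : List K) = X 44 w * X 47 (ph m w) := fun w => by
    simp [El, E_zero, O_zero, O, sO, ph_zero, X_zero]
  rw [zRep, hp, hp, show ∀ g a b : GL chevF4.Idx K, g * (a * b) * g⁻¹ = g * a * g⁻¹ * (g * b * g⁻¹) from
    fun g a b => by group]
  have h1 := (S.pow_twist v).2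
  rw [X, X, factsF4.torus_conj _ (show (44 : ℕ) < chevF4.nroots by decide +kernel),
    factsF4.torus_conj _ (show (47 : ℕ) < chevF4.nroots by decide +kernel),
    Cfsg.Agent.Lie.F4.torChar_eval _ (by norm_num) (show wList chevF4 44 = [1, 0, 0, 0] by decide +kernel),
    Cfsg.Agent.Lie.F4.torChar_eval _ (by norm_num) (show wList chevF4 47 = [0, 0, 0, 1] by decide +kernel)]
  have hp0 : ph m v ≠ 0 := ph_ne S hv
  congr 2
  · simp [Cfsg.Agent.Lie.F4.Setup.crd, ht, ph, inv_pow, h1, hv]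
  · simp [Cfsg.Agent.Lie.F4.Setup.crd, ht, hp0, ph_one]

include S in
theorem scale_P {s : K} (hs : s ≠ 0) : CT K m (El m ([s, 0, 0, 0, 0, 0, 0, 0, 0, 0, 0, 0] : List K)) (pRep K m) := by
  obtain ⟨u, hu⟩ : ∃ u : Kˣ, u = Units.mk0 (ph m s) (ph_ne S hs) := ⟨_, rfl⟩
  refine ⟨torus chevF4 K (S.crd 1 u), S.torus_mem 1 u, ?_⟩
  have hp : ∀ w : K, El m ([w, 0, 0, 0, 0, 0, 0, 0, 0, 0, 0, 0] : List K) = X 33 w * X 24 (ph m w) := fun w => by
    simp [El, E_zero, O_zero, E, sE, ph_zero, X_zero]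
  rw [pRep, hp, hp, show ∀ g a b : GL chevF4.Idx K, g * (a * b) * g⁻¹ = g * a * g⁻¹ * (g * b * g⁻¹) from
    fun g a b => by group]
  have h1 := (S.pow_twist s).2
  rw [X, X, factsF4.torus_conj _ (show (33 : ℕ) < chevF4.nroots by decide +kernel),
    factsF4.torus_conj _ (show (24 : ℕ) < chevF4.nroots by decide +kernel),
    Cfsg.Agent.Lie.F4.torChar_eval _ (by norm_num) (show wList chevF4 33 = [2, -1, 0, 0] by decide +kernel),
    Cfsg.Agent.Lie.F4.torChar_eval _ (by norm_num) (show wList chevF4 24 = [0, 0, -1, 2] by decide +kernel)]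
  have hp0 : ph m s ≠ 0 := ph_ne S hs
  congr 2
  · simp [Cfsg.Agent.Lie.F4.Setup.crd, hu, ph, h1, hs]
  · simp [Cfsg.Agent.Lie.F4.Setup.crd, hu, hp0, ph_one]

theorem cancel_div {a c : K} (hc : c ≠ 0) : a + c * (a / c) = 0 := by
  rw [mul_div_cancel₀ a hc, CharTwo.add_self_eq_zero]

include S in
theorem std_LP {a0 a1 z1 a2 a3 z3 a4 a5 z5 a6 : K} (h0 : a0 ≠ 0)
    (hu : Inv m [a0, a1, z1, a2, a3, z3, a4, a5, z5, a6, 0, 0]) :
    Std m (El m [a0, a1, z1, a2, a3, z3, a4, a5, z5, a6, 0, 0]) := by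
  have hq := ph_ne S h0
  obtain ⟨z1, a2, a3, z3, a4, a5, z5, a6, h⟩ : ∃ z1' a2' a3' z3' a4' a5' z5' a6' : K,
      CT K m (El m [a0, a1, z1, a2, a3, z3, a4, a5, z5, a6, 0, 0])
        (El m [a0, 0, z1', a2', a3', z3', a4', a5', z5', a6', 0, 0]) := by
    have h := s_LP_a1 S a0 a1 z1 a2 a3 z3 a4 a5 z5 a6 (a1 / a0)
    rw [add_comm (a0 * (a1 / a0)), cancel_div h0] at h
    exact ⟨_, _, _, _, _, _, _, _, h⟩
  refine Std.of_ct h ?_
  replace hu := hu.of_ct h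
  clear h
  obtain ⟨z1, a2, z3, a4, a5, z5, a6, h⟩ : ∃ z1' a2' z3' a4' a5' z5' a6' : K,
      CT K m (El m [a0, 0, z1, a2, a3, z3, a4, a5, z5, a6, 0, 0])
        (El m [a0, 0, z1', a2', 0, z3', a4', a5', z5', a6', 0, 0]) := by
    have h := s_LP_a3 S a0 z1 a2 a3 z3 a4 a5 z5 a6 (a3 / ph m a0)
    rw [add_comm (ph m a0 * (a3 / ph m a0)), cancel_div hq] at h
    exact ⟨_, _, _, _, _, _, _, h⟩
  refine Std.of_ct h ?_
  replace hu := hu.of_ct h
  clear h
  obtain rfl : a5 = 0 := (mul_eq_zero.1 (sq_P1 S a0 z1 a2 z3 a4 a5 z5 a6 hu)).resolve_left hq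
  obtain rfl : a6 = 0 := (mul_eq_zero.1 (sq_P2 S a0 z1 a2 z3 a4 z5 a6 hu)).resolve_left hq
  obtain rfl : z5 = 0 := (mul_eq_zero.1 (sq_P3 S a0 z1 a2 z3 a4 z5 hu)).resolve_left h0
  obtain ⟨a2, z3, h⟩ : ∃ a2' z3' : K, CT K m (El m [a0, 0, z1, a2, 0, z3, a4, 0, 0, 0, 0, 0])
      (El m [a0, 0, z1, a2', 0, z3', 0, 0, 0, 0, 0, 0]) := by
    have h := s_LP_a4 S a0 z1 a2 z3 a4 ((a4 / a0) ^ 2 ^ m)
    rw [ph_psi S, add_comm (a0 * (a4 / a0)), cancel_div h0] at h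
    exact ⟨_, _, h⟩
  refine Std.of_ct h ?_
  clear h hu
  obtain ⟨z1, h⟩ : ∃ z1' : K, CT K m (El m [a0, 0, z1, a2, 0, z3, 0, 0, 0, 0, 0, 0])
      (El m [a0, 0, z1', 0, 0, 0, 0, 0, 0, 0, 0, 0]) := by
    obtain ⟨A, hA⟩ : ∃ A : K, ph m A = a2 / a0 := ⟨_, ph_psi S _⟩
    have h := s_LP_O5 S a0 z1 a2 z3 A ((z3 + a2 * A) / a0)
    rw [hA, add_comm (a0 * (a2 / a0)), cancel_div h0, mul_div_cancel₀ _ h0] at h
    rw [show z3 + a2 * A + a2 * A + z3 = 0 by linear_combination (z3 + a2 * A) * (CharTwo.two_eq_zero : (2 : K) = 0)] at h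
    exact ⟨_, h⟩
  refine Std.of_ct h ?_
  clear h
  have h := s_LP_z1 S a0 z1 (z1 / a0)
  rw [add_comm (a0 * (z1 / a0)), cancel_div h0] at h
  exact Std.of_ct h (Or.inr (scale_P S h0))

include S in
theorem mid_a6 {a2 z3 a4 z5 a6 : K} (h0 : a6 ≠ 0) (hu : Inv m [0, 0, 0, a2, 0, z3, a4, 0, z5, a6, 0, 0]) :
    Std m (El m [0, 0, 0, a2, 0, z3, a4, 0, z5, a6, 0, 0]) :=
  Std.of_ct (s_sb S a2 z3 a4 z5 a6) (std_LP S h0 (hu.of_ct (s_sb S a2 z3 a4 z5 a6)))

include S in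
theorem mid_a2 {a2 z3 a4 z5 : K} (h0 : a2 ≠ 0) (hu : Inv m [0, 0, 0, a2, 0, z3, a4, 0, z5, 0, 0, 0]) :
    Std m (El m [0, 0, 0, a2, 0, z3, a4, 0, z5, 0, 0, 0]) := by
  have h := s_sa S 0 a2 z3 a4 z5 0
  simp only [zero_mul, mul_zero, add_zero, zero_add] at h
  exact Std.of_ct h (mid_a6 S h0 (hu.of_ct h))

include S in
theorem mid_a4 {a4 : K} (h0 : a4 ≠ 0) (hu : Inv m [0, 0, 0, 0, 0, 0, a4, 0, 0, 0, 0, 0]) :
    Std m (El m [0, 0, 0, 0, 0, 0, a4, 0, 0, 0, 0, 0]) := by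
  have h := s_sb S 0 0 a4 0 0
  exact Std.of_ct h (mid_a2 S h0 (hu.of_ct h))

include S in
theorem std_L7 {z1 a2 a3 z3 a4 a5 z5 a6 z7 : K} (h0 : z7 ≠ 0)
    (hu : Inv m [0, 0, z1, a2, a3, z3, a4, a5, z5, a6, 0, z7]) :
    Std m (El m [0, 0, z1, a2, a3, z3, a4, a5, z5, a6, 0, z7]) := by
  obtain ⟨z1, a2, a3, z3, a4, z5, a6, h⟩ : ∃ z1' a2' a3' z3' a4' z5' a6' : K,
      CT K m (El m [0, 0, z1, a2, a3, z3, a4, a5, z5, a6, 0, z7])
        (El m [0, 0, z1', a2', a3', z3', a4', 0, z5', a6', 0, z7]) := by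
    have h := s_L7_a5 S z1 a2 a3 z3 a4 a5 z5 a6 z7 (a5 / z7)
    rw [cancel_div h0] at h
    exact ⟨_, _, _, _, _, _, _, h⟩
  refine Std.of_ct h ?_
  replace hu := hu.of_ct h
  clear h
  obtain rfl : z1 = 0 := (mul_eq_zero.1 (sq_L7a S z1 a2 a3 z3 a4 z5 a6 z7 hu)).resolve_right h0
  obtain rfl : a3 = 0 := by
    rcases mul_eq_zero.1 (sq_L7b S a2 a3 z3 a4 z5 a6 z7 hu) with h | h
    · exact h
    · exact pow_eq_zero_iff (by positivity) |>.1 h
  obtain rfl : a2 = 0 := (mul_eq_zero.1 (sq_L7c S a2 z3 a4 z5 a6 z7 hu)).resolve_right h0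
  obtain ⟨z3, z5, h⟩ : ∃ z3' z5' : K, CT K m (El m [0, 0, 0, 0, 0, z3, a4, 0, z5, a6, 0, z7])
      (El m [0, 0, 0, 0, 0, z3', 0, 0, z5', 0, 0, z7]) := by
    obtain ⟨A, hA⟩ : ∃ A : K, A = a6 / z7 := ⟨_, rfl⟩
    obtain ⟨B, hB⟩ : ∃ B : K, B = (a4 + a6 * ph m A + z7 * (A * ph m A)) / z7 := ⟨_, rfl⟩
    have h := s_L7_O1 S z3 a4 z5 a6 z7 A B
    rw [show a4 + a6 * ph m A + z7 * (A * ph m A) + z7 * B = 0 by rw [hB]; exact cancel_div h0,
      show a6 + z7 * A = 0 by rw [hA]; exact cancel_div h0] at h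
    exact ⟨_, _, h⟩
  refine Std.of_ct h ?_
  replace hu := hu.of_ct h
  clear h
  obtain ⟨A, hA⟩ := sol S (z3 / z7)
  obtain ⟨z5, h⟩ : ∃ z5' : K, CT K m (El m [0, 0, 0, 0, 0, z3, 0, 0, z5, 0, 0, z7])
      (El m [0, 0, 0, 0, 0, 0, 0, 0, z5', z7 * A, 0, z7]) := by
    have h := s_L7_O1 S z3 0 z5 0 z7 A (A * ph m A)
    have hb : ph m (A * ph m A) = A * (A * ph m A) := by rw [ph_mul, ph_ph S]; ring
    rw [hb, show z3 + 0 * A + 0 * (A * ph m A) + z7 * (A * (A * ph m A)) + z7 * (A * (A * ph m A)) +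
        z7 * (A * (A * ph m A)) = 0 by
      rw [hA, mul_div_cancel₀ _ h0]
      linear_combination (2 * z3) * (CharTwo.two_eq_zero : (2 : K) = 0),
      show 0 + 0 * ph m A + z7 * (A * ph m A) + z7 * (A * ph m A) = 0 by
      linear_combination (z7 * (A * ph m A)) * (CharTwo.two_eq_zero : (2 : K) = 0), zero_add] at h
    exact ⟨_, h⟩
  refine Std.of_ct h ?_
  replace hu := hu.of_ct h
  clear h
  have h := s_L7_E2 S z5 (z7 * A) z7 (z5 / z7)
  rw [cancel_div h0] at h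
  refine Std.of_ct h ?_
  replace hu := hu.of_ct h
  clear h
  have h := (s_sa1 S (z7 * A) z7).trans (s_sb1 S z7 (z7 * A))
  by_cases hA0 : z7 * A = 0
  · rw [hA0] at h hu ⊢
    have h' := s_sa S 0 0 0 0 z7 0
    simp only [zero_mul, mul_zero, add_zero, zero_add] at h'
    exact Std.of_ct (h.trans h') (Or.inl (scale_Z S h0))
  · refine Std.of_ct h ?_
    replace hu := hu.of_ct h
    have h' := s_clr S (z7 * A) z7 (z7 / (z7 * A))
    rw [add_comm (z7 * A * (z7 / (z7 * A))), cancel_div hA0] at h'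
    exact Std.of_ct h' (mid_a4 S hA0 (hu.of_ct h'))

include S in
theorem mid_z1 {z1 a2 z3 a4 z5 : K} (h0 : z1 ≠ 0) (hu : Inv m [0, 0, z1, a2, 0, z3, a4, 0, z5, 0, 0, 0]) :
    Std m (El m [0, 0, z1, a2, 0, z3, a4, 0, z5, 0, 0, 0]) :=
  Std.of_ct (s_sa S z1 a2 z3 a4 z5 0) (std_L7 S h0 (hu.of_ct (s_sa S z1 a2 z3 a4 z5 0)))

include S in
theorem mid_z5 {z3 a4 z5 : K} (h0 : z5 ≠ 0) (hu : Inv m [0, 0, 0, 0, 0, z3, a4, 0, z5, 0, 0, 0]) :
    Std m (El m [0, 0, 0, 0, 0, z3, a4, 0, z5, 0, 0, 0]) := by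
  have h := s_sb S 0 z3 a4 z5 0
  exact Std.of_ct h (mid_z1 S h0 (hu.of_ct h))

include S in
theorem std_mid {z1 a2 a3 z3 a4 a5 z5 a6 : K} (hu : Inv m [0, 0, z1, a2, a3, z3, a4, a5, z5, a6, 0, 0])
    (hne : El m [0, 0, z1, a2, a3, z3, a4, a5, z5, a6, 0, 0] ≠ 1) :
    Std m (El m [0, 0, z1, a2, a3, z3, a4, a5, z5, a6, 0, 0]) := by
  have hph : ∀ {x : K}, ph m x = 0 → x = 0 := fun h => (pow_eq_zero_iff (by positivity)).1 h
  have h1 := sq_M1 S z1 a2 a3 z3 a4 a5 z5 a6 hu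
  have h2 := sq_M2 S z1 a2 a3 z3 a4 a5 z5 a6 hu
  obtain rfl : a5 = 0 := by
    have h3 : a5 * (a5 * ph m a5) = 0 := by linear_combination a5 * h2 - a6 * h1
    exact (mul_eq_zero.1 h3).elim id fun h4 => (mul_eq_zero.1 h4).elim id hph
  rw [zero_mul, add_zero] at h2
  have h3 := sq_M3 S z1 a2 a3 z3 a4 z5 a6 hu
  obtain rfl : a3 = 0 := by
    have h4 : a3 * (a3 * ph m a3) = 0 := by linear_combination a3 * h3 - z1 * h2
    exact (mul_eq_zero.1 h4).elim id fun h5 => (mul_eq_zero.1 h5).elim id hph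
  rw [ph_zero, mul_zero, add_zero] at h3
  rcases mul_eq_zero.1 h3 with rfl | rfl
  · by_cases h6 : a6 = 0
    swap
    · exact mid_a6 S h6 hu
    subst h6
    by_cases h2' : a2 = 0
    swap
    · exact mid_a2 S h2' hu
    subst h2'
    by_cases h5 : z5 = 0
    swap
    · exact mid_z5 S h5 hu
    subst h5
    by_cases hz3 : z3 = 0
    swap
    · have h := s_sa S 0 0 z3 a4 0 0
      simp only [zero_mul, mul_zero, add_zero, zero_add] at h
      exact Std.of_ct h (mid_z5 S hz3 (hu.of_ct h))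
    subst hz3
    refine mid_a4 S (fun h4 => hne ?_) hu
    subst h4
    simp [El, E_zero, O_zero]
  · by_cases hz1 : z1 = 0
    swap
    · exact mid_z1 S hz1 hu
    subst hz1
    by_cases h2' : a2 = 0
    swap
    · exact mid_a2 S h2' hu
    subst h2'
    by_cases h5 : z5 = 0
    swap
    · exact mid_z5 S h5 hu
    subst h5
    by_cases hz3 : z3 = 0
    swap
    · have h := s_sa S 0 0 z3 a4 0 0
      simp only [zero_mul, mul_zero, add_zero, zero_add] at h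
      exact Std.of_ct h (mid_z5 S hz3 (hu.of_ct h))
    subst hz3
    refine mid_a4 S (fun h4 => hne ?_) hu
    subst h4
    simp [El, E_zero, O_zero]

include S in
theorem std_El {l : List K} (hl : l.length = 12) (hu : Inv m l) (hne : El m l ≠ 1) : Std m (El m l) := by
  obtain ⟨a0, a1, z1, a2, a3, z3, a4, a5, z5, a6, a7, z7, rfl⟩ :
      ∃ a0 a1 z1 a2 a3 z3 a4 a5 z5 a6 a7 z7 : K, l = [a0, a1, z1, a2, a3, z3, a4, a5, z5, a6, a7, z7] := by
    refine ⟨l.getD 0 0, l.getD 1 0, l.getD 2 0, l.getD 3 0, l.getD 4 0, l.getD 5 0, l.getD 6 0, l.getD 7 0,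
      l.getD 8 0, l.getD 9 0, l.getD 10 0, l.getD 11 0, List.ext_getElem (by simp [hl]) fun i h1 h2 => ?_⟩
    rw [hl] at h1
    interval_cases i <;> simp [List.getD_eq_getElem?_getD, hl]
  have hph : ∀ {x : K}, ph m x = 0 → x = 0 := fun h => (pow_eq_zero_iff (by positivity)).1 h
  obtain rfl : a7 = 0 := (mul_eq_zero.1 (sq_G S a0 a1 z1 a2 a3 z3 a4 a5 z5 a6 a7 z7 hu)).elim id hph
  rcases mul_eq_zero.1 (sq_G0 S a0 a1 z1 a2 a3 z3 a4 a5 z5 a6 z7 hu) with h | rfl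
  swap
  · by_cases ha0 : a0 = 0
    swap
    · exact std_LP S ha0 hu
    subst ha0
    obtain rfl : a1 = 0 := (mul_eq_zero.1 (sq_G00 S a1 z1 a2 a3 z3 a4 a5 z5 a6 0 hu)).elim id hph
    exact std_mid S hu hne
  · obtain rfl := hph h
    by_cases h7 : z7 = 0
    · subst h7
      obtain rfl : a1 = 0 := (mul_eq_zero.1 (sq_G00 S a1 z1 a2 a3 z3 a4 a5 z5 a6 0 hu)).elim id hph
      exact std_mid S hu hne
    · obtain rfl : a1 = 0 := (mul_eq_zero.1 (sq_G00 S a1 z1 a2 a3 z3 a4 a5 z5 a6 z7 hu)).elim id hph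
      exact std_L7 S h7 hu

end Cfsg.Agent.Small.C2Inv.F4
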