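import Cfsg.Agent.Lib.Lie.TwistF4W

/-!
Collection in the unipotent group of F₄ in characteristic two, with polynomial parameters.
-/

set_option autoImplicit false
set_option maxRecDepth 4000

namespace Cfsg.Agent.Small.C2Inv.F4

open Cfsg.Lie Cfsg.Agent.Lie
open scoped MatrixGroups

/-- A monomial: the list of its variables. -/
abbrev Mono : Type := List ℕ

/-- A polynomial over the field with two elements. -/
abbrev Poly : Type := List Mono

/-- A word in root elements. -/
abbrev Word : Type := List (ℕ × Poly)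

/-- Insertion of a variable in a monomial. -/
def minsert (a : ℕ) : Mono → Mono
  | [] => [a]
  | b :: m => if Nat.ble a b then a :: b :: m else b :: minsert a m

/-- Product of monomials. -/
def mmul : Mono → Mono → Mono
  | [], n => n
  | a :: m, n => minsert a (mmul m n)

/-- Adding a monomial. -/
def toggle (m : Mono) : Poly → Poly
  | [] => [m]
  | n :: p => if n == m then p else n :: toggle m p

/-- Sum of polynomials. -/
def padd : Poly → Poly → Poly
  | [], q => q
  | m :: p, q => toggle m (padd p q)

/-- Multiplication by a monomial. -/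
def pmulM (m : Mono) : Poly → Poly
  | [] => []
  | n :: q => toggle (mmul m n) (pmulM m q)

/-- Product of polynomials. -/
def pmul : Poly → Poly → Poly
  | [], _ => []
  | m :: p, q => padd (pmulM m q) (pmul p q)

/-- Powers of a polynomial. -/
def ppow (p : Poly) : ℕ → Poly
  | 0 => [[]]
  | 1 => p
  | n + 2 => pmul p (ppow p (n + 1))

/-- The variable i as a polynomial. -/
def pv (i : ℕ) : Poly := [[i]]

/-- The commutator table of the positive roots. -/
def table : List ((ℕ × ℕ) × List (ℕ × ℤ × ℕ × ℕ)) :=
  [((24, 25), [(26, 1, 1, 1)]), ((24, 28), [(29, 1, 1, 1), (32, -1, 1, 2)]),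
   ((24, 30), [(31, 1, 1, 1)]), ((24, 35), [(36, 1, 1, 1), (43, 1, 1, 2)]),
   ((24, 37), [(38, 1, 1, 1), (45, 1, 1, 2)]), ((24, 41), [(42, 1, 1, 1)]),
   ((24, 46), [(47, 1, 1, 1)]), ((25, 27), [(28, 1, 1, 1), (30, -1, 1, 2)]),
   ((25, 31), [(32, 1, 1, 1)]), ((25, 34), [(35, 1, 1, 1), (41, 1, 1, 2)]),
   ((25, 38), [(39, 1, 1, 1), (47, 1, 1, 2)]), ((25, 42), [(43, 1, 1, 1)]),
   ((25, 45), [(46, 1, 1, 1)]), ((26, 27), [(29, 1, 1, 1), (31, -1, 1, 2)]),
   ((26, 30), [(32, -1, 1, 1)]), ((26, 34), [(36, 1, 1, 1), (42, 1, 1, 2)]),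
   ((26, 37), [(39, -1, 1, 1), (46, -1, 1, 2)]), ((26, 41), [(43, -1, 1, 1)]),
   ((26, 45), [(47, 1, 1, 1)]), ((27, 28), [(30, 2, 1, 1)]),
   ((27, 29), [(31, 2, 1, 1)]), ((27, 33), [(34, 1, 1, 1)]),
   ((27, 35), [(37, 1, 1, 1)]), ((27, 36), [(38, 1, 1, 1)]),
   ((27, 39), [(40, 1, 1, 1)]), ((27, 43), [(44, 1, 1, 1), (45, 1, 2, 1)]),
   ((27, 44), [(45, 2, 1, 1)]), ((28, 29), [(32, 2, 1, 1)]),
   ((28, 33), [(35, 1, 1, 1)]), ((28, 34), [(37, -1, 1, 1)]),
   ((28, 36), [(39, 1, 1, 1)]), ((28, 38), [(40, -1, 1, 1)]),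
   ((28, 42), [(44, -1, 1, 1), (46, -1, 2, 1)]), ((28, 44), [(46, 2, 1, 1)]),
   ((29, 33), [(36, 1, 1, 1)]), ((29, 34), [(38, -1, 1, 1)]),
   ((29, 35), [(39, -1, 1, 1)]), ((29, 37), [(40, 1, 1, 1)]),
   ((29, 41), [(44, 1, 1, 1), (47, 1, 2, 1)]), ((29, 44), [(47, 2, 1, 1)]),
   ((30, 33), [(37, 1, 1, 1), (41, -1, 1, 2)]), ((30, 36), [(40, 1, 1, 1), (47, -1, 1, 2)]),
   ((30, 42), [(45, -1, 1, 1)]), ((30, 43), [(46, -1, 1, 1)]),
   ((31, 33), [(38, 1, 1, 1), (42, -1, 1, 2)]), ((31, 35), [(40, -1, 1, 1), (46, 1, 1, 2)]),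
   ((31, 41), [(45, 1, 1, 1)]), ((31, 43), [(47, -1, 1, 1)]),
   ((32, 33), [(39, 1, 1, 1), (43, -1, 1, 2)]), ((32, 34), [(40, 1, 1, 1), (45, -1, 1, 2)]),
   ((32, 41), [(46, 1, 1, 1)]), ((32, 42), [(47, 1, 1, 1)]),
   ((33, 37), [(41, 2, 1, 1)]), ((33, 38), [(42, 2, 1, 1)]),
   ((33, 39), [(43, 2, 1, 1)]), ((33, 40), [(44, 1, 1, 1)]),
   ((34, 35), [(41, -2, 1, 1)]), ((34, 36), [(42, -2, 1, 1)]),
   ((34, 39), [(44, 1, 1, 1)]), ((34, 40), [(45, 2, 1, 1)]),
   ((35, 36), [(43, -2, 1, 1)]), ((35, 38), [(44, -1, 1, 1)]),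
   ((35, 40), [(46, 2, 1, 1)]), ((36, 37), [(44, 1, 1, 1)]),
   ((36, 40), [(47, 2, 1, 1)]), ((37, 38), [(45, -2, 1, 1)]),
   ((37, 39), [(46, -2, 1, 1)]), ((38, 39), [(47, -2, 1, 1)])]

/-- The entry of the table. -/
def look : List ((ℕ × ℕ) × List (ℕ × ℤ × ℕ × ℕ)) → ℕ → ℕ → List (ℕ × ℤ × ℕ × ℕ)
  | [], _, _ => []
  | ((a, b), L) :: T, r, s => if a == r && b == s then L else look T r s

theorem table_ok : ∀ r : Fin 24, ∀ s : Fin 24, r.val < s.val →
    chevF4.commTerms (24 + r.val) (24 + s.val) = look table (24 + r.val) (24 + s.val) ∧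
      24 + s.val ≠ chevF4.neg (24 + r.val) := by
  decide +kernel

/-- The factors produced in moving x_r(p) to the left of x_s(q). -/
def extra (r s : ℕ) (p q : Poly) : Word :=
  ((look table r s).filter fun c => c.2.1 % 2 != 0).map fun c => (c.1, pmul (ppow p c.2.2.1) (ppow q c.2.2.2))

/-- The last position after j with a nonzero entry. -/
def lastNZ (j : ℕ) : ℕ → List Poly → Option (ℕ × Poly)
  | _, [] => none
  | k, q :: V => match lastNZ j (k + 1) V with
    | some x => some x
    | none => if j < k && !q.isEmpty then some (k, q) else none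

/-- Collection: the coordinates of the product of a sorted product by a word. -/
def push : ℕ → List Poly → Word → Option (List Poly)
  | 0, _, _ => none
  | _ + 1, V, [] => some V
  | f + 1, V, (r, p) :: w =>
    if p.isEmpty then push f V w else
    if r < 24 || 48 <= r then none else
    match lastNZ (r - 24) 0 V with
    | none => push f (V.set (r - 24) (padd (V.getD (r - 24) []) p)) w
    | some (i, q) => (push f (V.set i []) ((r, p) :: (24 + i, q) :: extra r (24 + i) p q)).bind fun V' =>
        push f V' w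

/-- The coordinates of a word. -/
def coords (f : ℕ) (w : Word) : Option (List Poly) := push f (List.replicate 24 []) w

variable {K : Type*} [Field K]

/-- The value of a monomial. -/
def evM (env : ℕ → K) (m : Mono) : K := (m.map env).prod

/-- The value of a polynomial. -/
def evP (env : ℕ → K) : Poly → K
  | [] => 0
  | m :: p => evM env m + evP env p

/-- A root element. -/
noncomputable abbrev X (r : ℕ) (t : K) : GL chevF4.Idx K := factsF4.xg r t

theorem X_zero (r : ℕ) : X r (0 : K) = 1 := factsF4.xg_zero _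

/-- The value of a word. -/
noncomputable def evW (env : ℕ → K) : Word → GL chevF4.Idx K
  | [] => 1
  | (r, p) :: w => X r (evP env p) * evW env w

/-- The value of coordinates from position k on. -/
noncomputable def evV (env : ℕ → K) : ℕ → List Poly → GL chevF4.Idx K
  | _, [] => 1
  | k, p :: V => X (24 + k) (evP env p) * evV env (k + 1) V

variable (env : ℕ → K)

theorem evM_minsert (a : ℕ) : ∀ m : Mono, evM env (minsert a m) = env a * evM env m
  | [] => rfl
  | b :: m => by
    rw [minsert]
    split
    · simp [evM]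
    · have := evM_minsert a m
      simp only [evM, List.map_cons, List.prod_cons] at this ⊢
      rw [this]; ring

theorem evM_mmul : ∀ m n : Mono, evM env (mmul m n) = evM env m * evM env n
  | [], n => by simp [mmul, evM]
  | a :: m, n => by
    rw [mmul, evM_minsert, evM_mmul m n]
    simp only [evM, List.map_cons, List.prod_cons]; ring

variable [CharP K 2]

theorem evP_toggle (m : Mono) : ∀ p : Poly, evP env (toggle m p) = evM env m + evP env p
  | [] => rfl
  | n :: p => by
    rw [toggle]
    split
    · rename_i h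
      rw [beq_iff_eq] at h
      subst h
      rw [evP, ← add_assoc, CharTwo.add_self_eq_zero, zero_add]
    · rw [evP, evP_toggle m p, evP]; ring

theorem evP_padd : ∀ p q : Poly, evP env (padd p q) = evP env p + evP env q
  | [], q => by simp [padd, evP]
  | m :: p, q => by rw [padd, evP_toggle, evP_padd p q, evP]; ring

theorem evP_pmulM (m : Mono) : ∀ q : Poly, evP env (pmulM m q) = evM env m * evP env q
  | [] => by simp [pmulM, evP]
  | n :: q => by rw [pmulM, evP_toggle, evP_pmulM m q, evM_mmul, evP]; ring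

theorem evP_pmul : ∀ p q : Poly, evP env (pmul p q) = evP env p * evP env q
  | [], q => by simp [pmul, evP]
  | m :: p, q => by rw [pmul, evP_padd, evP_pmulM, evP_pmul p q, evP]; ring

theorem evP_ppow (p : Poly) : ∀ n : ℕ, evP env (ppow p n) = evP env p ^ n
  | 0 => by simp [ppow, evP, evM]
  | 1 => by simp [ppow]
  | n + 2 => by rw [ppow, evP_pmul, evP_ppow p (n + 1), ← pow_succ']

theorem evP_nil {p : Poly} (h : p.isEmpty = true) : evP env p = 0 := by
  rw [List.isEmpty_iff] at h
  subst h; rfl

theorem evW_append : ∀ v w : Word, evW env (v ++ w) = evW env v * evW env w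
  | [], w => by simp [evW]
  | (r, p) :: v, w => by rw [List.cons_append, evW, evW_append v w, evW, mul_assoc]

theorem evW_terms : ∀ (L : List (ℕ × ℤ × ℕ × ℕ)) (p q : Poly),
    (L.map fun c => X c.1 ((c.2.1 : K) * (-evP env p) ^ c.2.2.1 * evP env q ^ c.2.2.2)).prod =
      evW env ((L.filter fun c => c.2.1 % 2 != 0).map fun c =>
        (c.1, pmul (ppow p c.2.2.1) (ppow q c.2.2.2)))
  | [], p, q => rfl
  | c :: L, p, q => by
    rw [List.map_cons, List.prod_cons, evW_terms L p q]
    by_cases h : c.2.1 % 2 = 0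
    · rw [List.filter_cons_of_neg (by simp [h])]
      obtain ⟨k, hk⟩ := Int.dvd_of_emod_eq_zero h
      rw [hk, Int.cast_mul, Int.cast_ofNat, CharTwo.two_eq_zero, zero_mul, zero_mul, zero_mul, X_zero,
        one_mul]
    · rw [List.filter_cons_of_pos (by simp [h]), List.map_cons, evW, evP_pmul, evP_ppow, evP_ppow]
      congr 2
      obtain ⟨k, hk⟩ : ∃ k, c.2.1 = 2 * k + 1 := ⟨c.2.1 / 2, by omega⟩
      rw [hk, Int.cast_add, Int.cast_mul, Int.cast_ofNat, Int.cast_one, CharTwo.two_eq_zero, zero_mul, zero_add,
        one_mul, CharTwo.neg_eq]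

theorem swap_ext {r s : ℕ} (hr : 24 ≤ r) (hrs : r < s) (hs : s < 48) (p q : Poly) :
    X s (evP env q) * X r (evP env p) = evW env ((r, p) :: (s, q) :: extra r s p q) := by
  obtain ⟨h, h2⟩ := table_ok ⟨r - 24, by omega⟩ ⟨s - 24, by omega⟩ (show r - 24 < s - 24 by omega)
  simp only [show 24 + (r - 24) = r by omega, show 24 + (s - 24) = s by omega] at h h2
  have key := (factsF4.tsys K).x_comm r s (show r < chevF4.nroots by simp [show chevF4.nroots = 48 from rfl]; omega)
    (show s < chevF4.nroots by simp [show chevF4.nroots = 48 from rfl]; omega) hrs.ne' h2 (evP env p) (evP env q)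
  simp only [ChevalleyDatum.commWord, h, List.map_map] at key
  rw [evW, evW, extra, ← evW_terms env (look table r s) p q, ← mul_assoc]
  exact key

theorem evV_zero : ∀ (k : ℕ) (V : List Poly), (∀ p ∈ V, p.isEmpty = true) → evV env k V = 1
  | k, [], _ => rfl
  | k, p :: V, h => by
    rw [evV, evP_nil env (h p List.mem_cons_self), X_zero, one_mul,
      evV_zero (k + 1) V fun x hx => h x (List.mem_cons_of_mem _ hx)]

theorem lastNZ_none (j : ℕ) : ∀ (V : List Poly) (k : ℕ), lastNZ j k V = none →
    ∀ i, j < k + i → ∀ h : i < V.length, V[i].isEmpty = true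
  | [], _, _, _, _, h => absurd h (Nat.not_lt_zero _)
  | q :: V, k, hn, i, hi, h => by
    rw [lastNZ] at hn
    cases hV : lastNZ j (k + 1) V with
    | some x => rw [hV] at hn; simp at hn
    | none =>
      rw [hV] at hn
      rcases i with _ | i
      · by_contra hc
        simp only [List.getElem_cons_zero] at hc
        simp [hc] at hn
        omega
      · exact lastNZ_none j V (k + 1) hV i (by omega) (Nat.lt_of_succ_lt_succ h)

theorem add_top : ∀ (V : List Poly) (k i : ℕ) (hi : i < V.length) (p : Poly),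
    (∀ l, i < l → ∀ h : l < V.length, V[l].isEmpty = true) →
    evV env k (V.set i (padd (V.getD i []) p)) = evV env k V * X (24 + (k + i)) (evP env p)
  | [], k, i, hi, p, _ => absurd hi (Nat.not_lt_zero _)
  | q :: V, k, 0, _, p, h => by
    have hz : evV env (k + 1) V = 1 := evV_zero env (k + 1) V fun x hx => by
      obtain ⟨l, hl, rfl⟩ := List.mem_iff_getElem.1 hx
      exact h (l + 1) (Nat.succ_pos _) (Nat.succ_lt_succ hl)
    simp only [List.set_cons_zero, List.getD_cons_zero, evV, hz, mul_one, evP_padd, factsF4.xg_add, add_zero]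
  | q :: V, k, i + 1, hi, p, h => by
    simp only [List.set_cons_succ, List.getD_cons_succ, evV]
    rw [add_top V (k + 1) i (Nat.lt_of_succ_lt_succ hi) p fun l hl hlt =>
      h (l + 1) (Nat.succ_lt_succ hl) (Nat.succ_lt_succ hlt), ← mul_assoc]
    congr 3
    omega

theorem lastNZ_some (j : ℕ) : ∀ (V : List Poly) (k i : ℕ) (q : Poly), lastNZ j k V = some (i, q) →
    j < i ∧ k ≤ i ∧ i < k + V.length ∧ evV env k V = evV env k (V.set (i - k) []) * X (24 + i) (evP env q)
  | [], k, i, q, h => by simp [lastNZ] at h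
  | a :: V, k, i, q, h => by
    rw [lastNZ] at h
    cases hV : lastNZ j (k + 1) V with
    | some x =>
      rw [hV] at h
      simp only [Option.some.injEq] at h
      subst h
      obtain ⟨h1, h2, h3, h4⟩ := lastNZ_some j V (k + 1) i q hV
      refine ⟨h1, by omega, by simp; omega, ?_⟩
      rw [show i - k = (i - (k + 1)) + 1 by omega, List.set_cons_succ]
      simp only [evV]
      rw [h4, mul_assoc]
    | none =>
      rw [hV] at h
      simp only [Bool.and_eq_true, decide_eq_true_eq] at h
      split at h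
      · rename_i hc
        simp only [Option.some.injEq, Prod.mk.injEq] at h
        obtain ⟨rfl, rfl⟩ := h
        refine ⟨hc.1, le_rfl, by simp, ?_⟩
        have hz : evV env (k + 1) V = 1 := evV_zero env (k + 1) V fun x hx => by
          obtain ⟨l, hl, rfl⟩ := List.mem_iff_getElem.1 hx
          exact lastNZ_none j V (k + 1) hV l (by omega) hl
        simp [evV, hz, evP, X_zero]
      · simp at h

theorem push_spec : ∀ (f : ℕ) (V : List Poly) (w : Word) (V' : List Poly), V.length = 24 →
    push f V w = some V' → V'.length = 24 ∧ evV env 0 V' = evV env 0 V * evW env w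
  | 0, V, w, V', _, h => by simp [push] at h
  | f + 1, V, [], V', hV, h => by
    simp only [push, Option.some.injEq] at h
    subst h
    exact ⟨hV, by simp [evW]⟩
  | f + 1, V, (r, p) :: w, V', hV, h => by
    rw [push] at h
    split at h
    · rename_i hp
      obtain ⟨h1, h2⟩ := push_spec f V w V' hV h
      exact ⟨h1, by rw [h2, evW, evP_nil env hp, X_zero, one_mul]⟩
    split at h
    · simp at h
    rename_i hr
    simp only [Bool.or_eq_true, decide_eq_true_eq, not_or] at hr
    split at h
    · rename_i hn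
      obtain ⟨h1, h2⟩ := push_spec f _ w V' (by simp [hV]) h
      refine ⟨h1, ?_⟩
      rw [h2, evW, add_top env V 0 (r - 24) (by omega) p fun l hl hlt =>
        lastNZ_none (r - 24) V 0 hn l (by omega) hlt, show 24 + (0 + (r - 24)) = r by omega, mul_assoc]
    · rename_i i q hn
      obtain ⟨h1, -, h3, h4⟩ := lastNZ_some env (r - 24) V 0 i q hn
      rw [Nat.sub_zero] at h4
      cases hb : push f (V.set i []) ((r, p) :: (24 + i, q) :: extra r (24 + i) p q) with
      | none => rw [hb] at h; simp at h
      | some V1 =>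
        rw [hb] at h
        simp only [Option.bind_some] at h
        obtain ⟨hl1, he1⟩ := push_spec f _ _ V1 (by simp [hV]) hb
        obtain ⟨hl2, he2⟩ := push_spec f V1 w V' hl1 h
        refine ⟨hl2, ?_⟩
        rw [he2, he1, ← swap_ext env (by omega) (show r < 24 + i by omega) (by omega) p q, h4]
        simp only [evW, mul_assoc]

theorem posL_F4 : Facts.posL chevF4 = (List.range 24).map (24 + ·) := by decide +kernel

theorem evV_eq : ∀ (k : ℕ) (V : List Poly), evV env k V =
    (factsF4.sys K).prodOver ((List.range' k V.length).map (24 + ·)) fun r => evP env (V.getD (r - 24 - k) [])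
  | k, [] => by simp [evV, CommSys.prodOver]
  | k, p :: V => by
    rw [evV, evV_eq (k + 1) V]
    simp only [List.length_cons, List.range'_succ, List.map_cons, CommSys.prodOver, List.prod_cons, Facts.sys_x,
      List.map_map, show 24 + k - 24 - k = 0 by omega, List.getD_cons_zero]
    congr 2
    refine List.map_congr_left fun l hl => ?_
    rw [List.mem_range'_1] at hl
    simp only [Function.comp_apply]
    rw [show 24 + l - 24 - k = (24 + l - 24 - (k + 1)) + 1 by omega, List.getD_cons_succ]

/-- The value of collected coordinates. -/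
theorem coords_spec {f : ℕ} {w : Word} {V : List Poly} (h : coords f w = some V) :
    evW env w = (factsF4.sys K).prodOver (Facts.posL chevF4) fun r => evP env (V.getD (r - 24) []) := by
  obtain ⟨hl, he⟩ := push_spec env f _ w V (by simp) h
  rw [evV_zero env 0 (List.replicate 24 []) (fun p hp => by rw [List.eq_of_mem_replicate hp]; rfl), one_mul,
    evV_eq, hl] at he
  rw [← he, posL_F4, List.range_eq_range']
  simp only [Nat.sub_zero]

/-- Two words with equal coordinate values are equal. -/
theorem eq_of_coords {f : ℕ} {v w : Word} {V W : List Poly} (hv : coords f v = some V) (hw : coords f w = some W)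
    (h : ∀ i, i < 24 → evP env (V.getD i []) = evP env (W.getD i [])) : evW env v = evW env w := by
  rw [coords_spec env hv, coords_spec env hw]
  show (List.map _ _).prod = (List.map _ _).prod
  refine congrArg List.prod (List.map_congr_left fun r hr => ?_)
  rw [posL_F4, List.mem_map] at hr
  obtain ⟨i, hi, rfl⟩ := hr
  have := h i (List.mem_range.1 hi)
  simp only [List.getD_eq_getElem?_getD] at this
  simp [this]

/-- Equal words have equal coordinate values. -/
theorem coords_inj {f : ℕ} {v w : Word} {V W : List Poly} (hv : coords f v = some V) (hw : coords f w = some W)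
    (h : evW env v = evW env w) : ∀ i, i < 24 → evP env (V.getD i []) = evP env (W.getD i []) := by
  rw [coords_spec env hv, coords_spec env hw] at h
  intro i hi
  have := factsF4.prodOver_inj factsF4.closedList_posL h (24 + i)
    (by rw [posL_F4, List.mem_map]; exact ⟨i, List.mem_range.2 hi, rfl⟩)
  simpa using this

end Cfsg.Agent.Small.C2Inv.F4
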