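import Cfsg.Agent.Lib.Small.Char2Invol.F4.Cent
import Cfsg.Agent.Lib.Small.Char2Invol.TwPara

/-!
The prime divisors of centralisers of involutions in ²F₄(q).
-/

set_option autoImplicit false
set_option maxRecDepth 4000
set_option linter.unusedSectionVars false

namespace Cfsg.Agent.Small.C2Inv.F4

open Cfsg.Lie Cfsg.Agent.Lie
open Cfsg.Agent.Lie.F4 (Setup Os ws okPi_ws)
open scoped MatrixGroups

variable {K : Type*} [Field K] [CharP K 2] [Fintype K] {m : ℕ} (S : Setup K m)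

theorem Os_getD : (Os.getD 0 []).map Fin.val = [0, 3] ∧ (Os.getD 1 []).map Fin.val = [1, 2, 1, 2] := by
  decide +kernel

theorem orbL_len : ∀ k < 2, (orbL chevF4 ((Os.getD k []).map Fin.val)).length = [2, 4].getD k 0 := by
  decide +kernel

theorem Os_mem {k : ℕ} (hk : k < 2) : Os.getD k [] ∈ Os := by
  rw [List.getD_eq_getElem _ _ (show k < Os.length by rw [show Os.length = 2 from rfl]; exact hk)]
  exact List.getElem_mem _

include S in
theorem card_par {k : ℕ} (hk : k < 2) :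
    Nat.card ↥(TwPara.par S.data ⟨Os.getD k [], Os_mem hk⟩) =
      (2 ^ (2 * m + 1)) ^ 12 * (2 ^ (2 * m + 1) - 1) ^ 2 * (1 + (2 ^ (2 * m + 1)) ^ (k + 1)) := by
  rw [TwPara.card_par, S.data.card_B1]
  have hu := S.data.card_U
  change Nat.card ↥(chevF4.posUnipotent K ⊓ twistedF4 K (2 ^ m)) ^ 2 =
    (2 ^ (2 * m + 1)) ^ (chevF4.nroots / 2) at hu
  rw [show chevF4.nroots / 2 = 12 * 2 from rfl, pow_mul _ 12 2] at hu
  have ho := S.data.orb_card _ (Os_mem hk)
  change Nat.card ↥((factsF4.tsys K).US (orbL chevF4 ((Os.getD k []).map Fin.val)) ⊓ S.T.fix) ^ 2 =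
    (2 ^ (2 * m + 1)) ^ (orbL chevF4 ((Os.getD k []).map Fin.val)).length at ho
  rw [orbL_len k hk, show [2, 4].getD k 0 = (k + 1) * 2 by interval_cases k <;> rfl, pow_mul _ (k + 1) 2] at ho
  show Nat.card ↥(chevF4.posUnipotent K ⊓ twistedF4 K (2 ^ m)) *
      Nat.card ↥(chevF4.diagonalSubgroup K ⊓ twistedF4 K (2 ^ m)) *
      (1 + Nat.card ↥((factsF4.tsys K).US (orbL chevF4 ((Os.getD k []).map Fin.val)) ⊓ S.T.fix)) = _
  rw [Nat.pow_left_injective two_ne_zero hu]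
  rw [S.card_H, Nat.pow_left_injective two_ne_zero ho]

include S in
theorem orderOf_dvd {b : ↥(twistedF4 K (2 ^ m))} {k : ℕ} (hk : k < 2) {u n v a : GL chevF4.Idx K} {ω : List ℕ}
    (hω : ω ∈ [([] : List ℕ), [k]]) (hu : u ∈ (factsF4.tsys K).U) (huG : u ∈ twistedF4 K (2 ^ m))
    (hv : v ∈ (factsF4.tsys K).U) (hvG : v ∈ twistedF4 K (2 ^ m)) (he : (b : GL chevF4.Idx K) = u * n * v)
    (ha : a ∈ (factsF4.tsys K).H)
    (hn : n = a * (factsF4.tsys K).nW (factsF4.refSys.pr (orbWord chevF4 Os ω))) :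
    orderOf b ∣ (2 ^ (2 * m + 1)) ^ 12 * (2 ^ (2 * m + 1) - 1) ^ 2 * (1 + (2 ^ (2 * m + 1)) ^ (k + 1)) := by
  rw [← card_par S hk]
  refine Subgroup.orderOf_dvd_natCard _ ?_
  refine TwPara.mem_par S.data b.2 ⟨Os.getD k [], Os_mem hk⟩ (w := factsF4.refSys.pr (orbWord chevF4 Os ω)) ?_
    hu huG hv hvG ha (by rw [he, hn])
  simp only [List.mem_cons, List.not_mem_nil, or_false] at hω
  rcases hω with rfl | rfl
  · left; exact RefSystem.pr_nil _
  · right; rw [orbWord, List.flatMap_cons, List.flatMap_nil, List.append_nil]; rfl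

theorem prime_dvd {r q : ℕ} (hr : r.Prime) (hq : 2 ≤ q) {k : ℕ} (hk : k < 2)
    (h : r ∣ q ^ 12 * (q - 1) ^ 2 * (1 + q ^ (k + 1))) : r ∣ q * (q ^ 4 - 1) := by
  obtain ⟨n, rfl⟩ : ∃ n, q = n + 1 := ⟨q - 1, by omega⟩
  rw [Nat.add_sub_cancel] at h
  have e : (n + 1) ^ 4 - 1 = n * (n + 2) * (1 + (n + 1) ^ 2) := by
    rw [show (n + 1) ^ 4 = n * (n + 2) * (1 + (n + 1) ^ 2) + 1 by ring, Nat.add_sub_cancel]
  rw [e]
  rcases hr.dvd_mul.1 h with h | h
  · rcases hr.dvd_mul.1 h with h | h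
    · exact dvd_mul_of_dvd_left (hr.dvd_of_dvd_pow h) _
    · exact dvd_mul_of_dvd_right (dvd_mul_of_dvd_left (dvd_mul_of_dvd_left (hr.dvd_of_dvd_pow h) _) _) _
  · interval_cases k
    · rw [pow_one, show 1 + (n + 1) = n + 2 by ring] at h
      exact dvd_mul_of_dvd_right (dvd_mul_of_dvd_left (dvd_mul_of_dvd_right h _) _) _
    · exact dvd_mul_of_dvd_right (dvd_mul_of_dvd_right h _) _

include S in
/-- The primes of the centraliser of an involution. -/
theorem primes_cent (a b : ↥(twistedF4 K (2 ^ m))) (ha : orderOf a = 2) (hab : Commute a b) {r : ℕ}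
    (hr : r.Prime) (hd : r ∣ orderOf b) :
    r ∣ 2 ^ (2 * m + 1) * ((2 ^ (2 * m + 1)) ^ 4 - 1) := by
  have h2 := (orderOf_eq_iff (by norm_num : 0 < 2)).1 ha
  have hsq : (a : GL chevF4.Idx K) * a = 1 := by rw [← pow_two]; exact congrArg Subtype.val h2.1
  have hne : (a : GL chevF4.Idx K) ≠ 1 := fun h =>
    h2.2 1 (by norm_num) (by norm_num) (by rw [pow_one]; exact Subtype.ext h)
  have hq : 2 ≤ 2 ^ (2 * m + 1) := Nat.le_self_pow (by omega) 2
  have move : ∀ z : GL chevF4.Idx K, CT K m a z → ∃ b' : ↥(twistedF4 K (2 ^ m)),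
      orderOf b' = orderOf b ∧ Commute (b' : GL chevF4.Idx K) z := by
    rintro z ⟨x, hx, rfl⟩
    obtain ⟨X', hX'⟩ : ∃ X' : ↥(twistedF4 K (2 ^ m)), X' = ⟨x, hx⟩ := ⟨_, rfl⟩
    refine ⟨MulAut.conj X' b, orderOf_injective (MulAut.conj X').toMonoidHom (MulAut.conj X').injective b, ?_⟩
    have h := congrArg (fun g : ↥(twistedF4 K (2 ^ m)) => (g : GL chevF4.Idx K))
      ((hab.map (MulAut.conj X').toMonoidHom).eq)
    simp only [MulEquiv.coe_toMonoidHom, MulAut.conj_apply, hX', Subgroup.coe_mul, Subgroup.coe_inv] at h ⊢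
    exact h.symm
  rcases std_of_involution S a.2 hsq hne with h | h
  · obtain ⟨b', hb', hc⟩ := move _ h
    obtain ⟨u, n, v, ω, hω, hu, huG, hv, hvG, he, c, hc', hn⟩ := cent_z S b'.2 hc
    rw [← hb'] at hd
    exact prime_dvd hr hq (k := 1) (by norm_num)
      (hd.trans (orderOf_dvd S (by norm_num) hω hu huG hv hvG he hc' hn))
  · obtain ⟨b', hb', hc⟩ := move _ (h.trans (pMid_ct S).symm)
    obtain ⟨u, n, v, ω, hω, hu, huG, hv, hvG, he, c, hc', hn⟩ := cent_p S b'.2 hc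
    rw [← hb'] at hd
    exact prime_dvd hr hq (k := 0) (by norm_num)
      (hd.trans (orderOf_dvd S (by norm_num) hω hu huG hv hvG he hc' hn))

end Cfsg.Agent.Small.C2Inv.F4
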