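import Cfsg.Agent.Lib.Small.Char2Invol.F4.Collect
import Cfsg.Agent.Lib.Small.Char2Invol.Basic

/-!
Coordinates of the fixed unipotent group of ²F₄ and the action of the twisted Weyl representatives.
-/

set_option autoImplicit false
set_option maxRecDepth 4000
set_option linter.unusedSectionVars false

namespace Cfsg.Agent.Small.C2Inv.F4

open Cfsg.Lie Cfsg.Agent.Lie
open Cfsg.Agent.Lie.F4 (Setup Os)
open scoped MatrixGroups

/-- Two words have the same coordinates. -/
def eqv (f : ℕ) (v w : Word) : Bool :=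
  match coords f v, coords f w with
  | some V, some W => (List.range 24).all fun i => (padd (V.getD i []) (W.getD i [])).isEmpty
  | _, _ => false

/-- The variables after twisting. -/
def twM : Mono → Mono
  | [] => []
  | i :: m => if i % 2 == 0 then minsert (i + 1) (twM m) else minsert (i - 1) (minsert (i - 1) (twM m))

/-- The twist of a polynomial. -/
def twP : Poly → Poly
  | [] => []
  | m :: p => toggle (twM m) (twP p)

/-- The roots of an even direction: short, long. -/
def sE : ℕ → ℕ × ℕ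
  | 0 => (33, 24)
  | 2 => (38, 43)
  | 4 => (39, 45)
  | _ => (37, 32)

/-- The roots of an odd direction. -/
def sO : ℕ → ℕ × ℕ × ℕ × ℕ
  | 1 => (34, 26, 36, 42)
  | 3 => (29, 41, 44, 47)
  | 5 => (35, 31, 40, 46)
  | _ => (27, 25, 28, 30)

/-- The word of an element of an even direction. -/
def wE (d : ℕ) (p : Poly) : Word := [((sE d).1, p), ((sE d).2, twP p)]

/-- The word of an element of an odd direction. -/
def wO (d : ℕ) (p r : Poly) : Word :=
  [((sO d).1, p), ((sO d).2.1, twP p), ((sO d).2.2.1, padd (pmul p (twP p)) r), ((sO d).2.2.2, twP r)]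

/-- The word with given coordinates. -/
def wEl (P : List Poly) : Word :=
  wO 7 (P.getD 10 []) (P.getD 11 []) ++ wE 6 (P.getD 9 []) ++ wO 5 (P.getD 7 []) (P.getD 8 []) ++
    wE 4 (P.getD 6 []) ++ wO 3 (P.getD 4 []) (P.getD 5 []) ++ wE 2 (P.getD 3 []) ++
    wO 1 (P.getD 1 []) (P.getD 2 []) ++ wE 0 (P.getD 0 [])

variable {K : Type*} [Field K]

/-- The twisting endomorphism. -/
def ph (m : ℕ) (x : K) : K := x ^ (2 * 2 ^ m)

/-- An element of an even direction. -/
noncomputable def E (m d : ℕ) (s : K) : GL chevF4.Idx K := X (sE d).1 s * X (sE d).2 (ph m s)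

/-- An element of an odd direction. -/
noncomputable def O (m d : ℕ) (s u : K) : GL chevF4.Idx K :=
  X (sO d).1 s * X (sO d).2.1 (ph m s) * X (sO d).2.2.1 (s * ph m s + u) * X (sO d).2.2.2 (ph m u)

/-- The element with given coordinates. -/
noncomputable def El (m : ℕ) (v : List K) : GL chevF4.Idx K :=
  O m 7 (v.getD 10 0) (v.getD 11 0) * E m 6 (v.getD 9 0) * O m 5 (v.getD 7 0) (v.getD 8 0) *
    E m 4 (v.getD 6 0) * O m 3 (v.getD 4 0) (v.getD 5 0) * E m 2 (v.getD 3 0) *
    O m 1 (v.getD 1 0) (v.getD 2 0) * E m 0 (v.getD 0 0)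

/-- The assignment of the variables. -/
def envL (m : ℕ) (l : List K) (i : ℕ) : K := if i % 2 = 0 then l.getD (i / 2) 0 else ph m (l.getD (i / 2) 0)

variable [CharP K 2]

theorem eqv_sound {f : ℕ} {v w : Word} (h : eqv f v w = true) (env : ℕ → K) : evW env v = evW env w := by
  unfold eqv at h
  split at h
  · rename_i V W hv hw
    refine eq_of_coords env hv hw fun i hi => ?_
    have h1 := List.all_eq_true.1 h i (List.mem_range.2 hi)
    have h2 := evP_nil env h1
    rwa [evP_padd, CharTwo.add_eq_zero] at h2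
  · simp at h

theorem inv_X (r : ℕ) (t : K) : (X r t)⁻¹ = X r t := by
  refine inv_eq_of_mul_eq_one_right ?_
  show factsF4.xg r t * factsF4.xg r t = 1
  rw [← factsF4.xg_add, CharTwo.add_self_eq_zero, factsF4.xg_zero]

theorem evW_reverse (env : ℕ → K) : ∀ g : Word, evW env g.reverse = (evW env g)⁻¹
  | [] => by simp [evW]
  | (r, p) :: g => by
    rw [List.reverse_cons, evW_append, evW_reverse env g, evW, evW, evW, mul_one, _root_.mul_inv_rev, inv_X]

theorem conj_eqv {f : ℕ} {g a b : Word} (h : eqv f (g ++ a ++ g.reverse) b = true) (env : ℕ → K) :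
    evW env g * evW env a * (evW env g)⁻¹ = evW env b := by
  rw [← eqv_sound h env, evW_append, evW_append, evW_reverse]

section twist

variable [Fintype K] {m : ℕ} (S : Setup K m)

include S

theorem ph_ph (x : K) : ph m (ph m x) = x ^ 2 := by
  have h := (S.pow_twist x).2
  calc ph m (ph m x) = ((x ^ (2 * 2 ^ m)) ^ 2 ^ m) ^ 2 := by
        rw [ph, ph, ← pow_mul (x ^ (2 * 2 ^ m)) (2 ^ m) 2, mul_comm (2 ^ m) 2]
    _ = x ^ 2 := by rw [h]

omit S in
theorem ph_mul (x y : K) : ph m (x * y) = ph m x * ph m y := mul_pow _ _ _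

omit S in
theorem ph_add (x y : K) : ph m (x + y) = ph m x + ph m y := by
  rw [ph, ph, ph, ← pow_succ', add_pow_char_pow]

omit S in
theorem ph_zero : ph m (0 : K) = 0 := zero_pow (by positivity)

omit S in
theorem ph_one : ph m (1 : K) = 1 := one_pow _

theorem env_ok (l : List K) (i : ℕ) :
    envL m l (2 * i + 1) = ph m (envL m l (2 * i)) ∧ envL m l (2 * i) = l.getD i 0 := by
  simp [envL, show (2 * i + 1) % 2 = 1 by omega, show (2 * i + 1) / 2 = i by omega]

theorem evM_twM (l : List K) : ∀ mo : Mono, evM (envL m l) (twM mo) = ph m (evM (envL m l) mo)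
  | [] => by simp [twM, evM, ph_one]
  | i :: mo => by
    have hc : evM (envL m l) (i :: mo) = envL m l i * evM (envL m l) mo := by simp [evM]
    rw [hc, ph_mul, ← evM_twM l mo, twM]
    split
    · rename_i h
      obtain ⟨k, rfl⟩ : ∃ k, i = 2 * k := ⟨i / 2, by simp at h; omega⟩
      rw [evM_minsert, (env_ok S l k).1]
    · rename_i h
      obtain ⟨k, rfl⟩ : ∃ k, i = 2 * k + 1 := ⟨i / 2, by simp at h; omega⟩
      rw [evM_minsert, evM_minsert, Nat.add_sub_cancel, (env_ok S l k).1, ph_ph S]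
      ring

theorem evP_twP (l : List K) : ∀ p : Poly, evP (envL m l) (twP p) = ph m (evP (envL m l) p)
  | [] => by simp [twP, evP, ph_zero]
  | n :: p => by rw [twP, evP_toggle, evM_twM S l, evP_twP l p, evP, ph_add]

theorem ev_wE (l : List K) (d : ℕ) (p : Poly) : evW (envL m l) (wE d p) = E m d (evP (envL m l) p) := by
  simp [wE, evW, evP_twP S l, E]

theorem ev_wO (l : List K) (d : ℕ) (p r : Poly) :
    evW (envL m l) (wO d p r) = O m d (evP (envL m l) p) (evP (envL m l) r) := by
  simp [wO, evW, evP_twP S l, O, evP_padd, evP_pmul, mul_assoc]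

theorem ev_wEl (l : List K) (P : List Poly) :
    evW (envL m l) (wEl P) = El m (P.map (evP (envL m l))) := by
  have hg : ∀ i, (P.map (evP (envL m l))).getD i 0 = evP (envL m l) (P.getD i []) := fun i => by
    by_cases h : i < P.length
    · simp [List.getD_eq_getElem?_getD, h]
    · simp [List.getD_eq_getElem?_getD, Nat.le_of_not_lt h, evP]
  simp only [wEl, evW_append, ev_wE S l, ev_wO S l, El, hg]

theorem sig_short {r r' : ℕ} (hr : r < 48) (h : graphF4.img r = r' ∧ graphF4.expo r = 2) (s : K) :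
    S.T.sig (X r s) = X r' (ph m s) := by
  show S.T.sig (factsF4.xg r s) = _
  rw [S.sig_xg hr, h.1, h.2, ← pow_mul, mul_comm (2 ^ m)]
  rcases Int.even_or_odd (graphF4.sign r) with ⟨k, hk⟩ | ⟨k, hk⟩
  · exfalso
    have : ∀ r : Fin 48, graphF4.sign r.val % 2 ≠ 0 := by decide +kernel
    exact this ⟨r, hr⟩ (by simp only; omega)
  · rw [hk, Int.cast_add, Int.cast_mul, Int.cast_ofNat, Int.cast_one, CharTwo.two_eq_zero, zero_mul, zero_add,
      one_mul]
    rfl

theorem sig_long {r r' : ℕ} (hr : r < 48) (h : graphF4.img r = r' ∧ graphF4.expo r = 1) (x : K) :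
    S.T.sig (X r (ph m x)) = X r' x := by
  show S.T.sig (factsF4.xg r (ph m x)) = _
  rw [S.sig_xg hr, h.1, h.2, pow_one, ph, (S.pow_twist x).2]
  rcases Int.even_or_odd (graphF4.sign r) with ⟨k, hk⟩ | ⟨k, hk⟩
  · exfalso
    have : ∀ r : Fin 48, graphF4.sign r.val % 2 ≠ 0 := by decide +kernel
    exact this ⟨r, hr⟩ (by simp only; omega)
  · rw [hk, Int.cast_add, Int.cast_mul, Int.cast_ofNat, Int.cast_one, CharTwo.two_eq_zero, zero_mul, zero_add,
      one_mul]

omit S in
theorem X_mem_U {r : ℕ} (h : 24 ≤ r ∧ r < 48) (t : K) : X r t ∈ (factsF4.tsys K).U :=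
  (factsF4.tsys K).x_mem_U h.1 h.2 t

omit S in
theorem sE_tab : ∀ d, (sE d ∈ [(33, 24), (38, 43), (39, 45), (37, 32)]) := by
  intro d; unfold sE; split <;> simp

omit S in
theorem sO_tab : ∀ d, (sO d ∈ [(34, 26, 36, 42), (29, 41, 44, 47), (35, 31, 40, 46), (27, 25, 28, 30)]) := by
  intro d; unfold sO; split <;> simp

omit S in
theorem tabE : ∀ p ∈ [((33 : ℕ), (24 : ℕ)), (38, 43), (39, 45), (37, 32)],
    (graphF4.img p.1 = p.2 ∧ graphF4.expo p.1 = 2) ∧ (graphF4.img p.2 = p.1 ∧ graphF4.expo p.2 = 1) ∧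
      (24 ≤ p.1 ∧ p.1 < 48) ∧ (24 ≤ p.2 ∧ p.2 < 48) ∧
      eqv 100 [(p.2, twP (pv 0)), (p.1, pv 0)] [(p.1, pv 0), (p.2, twP (pv 0))] = true := by
  decide +kernel

omit S in
theorem tabO : ∀ p ∈ [((34 : ℕ), (26 : ℕ), (36 : ℕ), (42 : ℕ)), (29, 41, 44, 47), (35, 31, 40, 46), (27, 25, 28, 30)],
    (graphF4.img p.1 = p.2.1 ∧ graphF4.expo p.1 = 2) ∧ (graphF4.img p.2.1 = p.1 ∧ graphF4.expo p.2.1 = 1) ∧
      (graphF4.img p.2.2.1 = p.2.2.2 ∧ graphF4.expo p.2.2.1 = 2) ∧
      (graphF4.img p.2.2.2 = p.2.2.1 ∧ graphF4.expo p.2.2.2 = 1) ∧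
      (24 ≤ p.1 ∧ p.1 < 48) ∧ (24 ≤ p.2.1 ∧ p.2.1 < 48) ∧ (24 ≤ p.2.2.1 ∧ p.2.2.1 < 48) ∧
      (24 ≤ p.2.2.2 ∧ p.2.2.2 < 48) ∧
      eqv 100 [(p.2.1, twP (pv 0)), (p.1, pv 0), (p.2.2.2, twP (padd (pmul (pv 0) (twP (pv 0))) (pv 2))),
          (p.2.2.1, pv 2)]
        [(p.1, pv 0), (p.2.1, twP (pv 0)), (p.2.2.1, padd (pmul (pv 0) (twP (pv 0))) (pv 2)),
          (p.2.2.2, twP (pv 2))] = true := by
  decide +kernel

theorem E_mem (d : ℕ) (s : K) :
    E m d s ∈ (factsF4.tsys K).U ∧ E m d s ∈ twistedF4 K (2 ^ m) := by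
  obtain ⟨h1, h2, h3, h4, h5⟩ := tabE (sE d) (sE_tab d)
  have hU : E m d s ∈ (factsF4.tsys K).U := mul_mem (X_mem_U h3 _) (X_mem_U h4 _)
  refine ⟨hU, S.data.U_fix_le ⟨hU, S.T.US_le_group _ hU, ?_⟩⟩
  have h := eqv_sound h5 (envL m [s])
  simp only [evW, evP_twP S [s], mul_one] at h
  have hv : evP (envL m [s]) (pv 0) = s := by simp [pv, evP, evM, envL]
  rw [hv] at h
  rw [E, S.T.sig_mul _ (factsF4.xg_mem_group _ _) _ (factsF4.xg_mem_group _ _), sig_short S h3.2 h1 s,
    sig_long S h4.2 h2 s]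
  exact h

theorem O_mem (d : ℕ) (s u : K) :
    O m d s u ∈ (factsF4.tsys K).U ∧ O m d s u ∈ twistedF4 K (2 ^ m) := by
  obtain ⟨h1, h2, h3, h4, b1, b2, b3, b4, h5⟩ := tabO (sO d) (sO_tab d)
  have hU : O m d s u ∈ (factsF4.tsys K).U :=
    mul_mem (mul_mem (mul_mem (X_mem_U b1 _) (X_mem_U b2 _)) (X_mem_U b3 _)) (X_mem_U b4 _)
  refine ⟨hU, S.data.U_fix_le ⟨hU, S.T.US_le_group _ hU, ?_⟩⟩
  have hg : ∀ r (t : K), X r t ∈ chevF4.group K := fun r t => factsF4.xg_mem_group r t
  have h := eqv_sound h5 (envL m [s, u])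
  simp only [evW, evP_twP S [s, u], evP_padd, evP_pmul, mul_one, ← mul_assoc] at h
  have hv : evP (envL m [s, u]) (pv 0) = s ∧ evP (envL m [s, u]) (pv 2) = u := by simp [pv, evP, evM, envL]
  rw [hv.1, hv.2] at h
  rw [O, S.T.sig_mul _ (mul_mem (mul_mem (hg _ _) (hg _ _)) (hg _ _)) _ (hg _ _),
    S.T.sig_mul _ (mul_mem (hg _ _) (hg _ _)) _ (hg _ _), S.T.sig_mul _ (hg _ _) _ (hg _ _),
    sig_short S b1.2 h1 s, sig_long S b2.2 h2 s, sig_short S b3.2 h3, sig_long S b4.2 h4 u]
  exact h

theorem El_mem (v : List K) : El m v ∈ (factsF4.tsys K).U ∧ El m v ∈ twistedF4 K (2 ^ m) := by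
  have h1 := fun d s => (E_mem S d s).1
  have h2 := fun d s => (E_mem S d s).2
  have h3 := fun d s u => (O_mem S d s u).1
  have h4 := fun d s u => (O_mem S d s u).2
  exact ⟨mul_mem (mul_mem (mul_mem (mul_mem (mul_mem (mul_mem (mul_mem (h3 _ _ _) (h1 _ _)) (h3 _ _ _))
      (h1 _ _)) (h3 _ _ _)) (h1 _ _)) (h3 _ _ _)) (h1 _ _),
    mul_mem (mul_mem (mul_mem (mul_mem (mul_mem (mul_mem (mul_mem (h4 _ _ _) (h2 _ _)) (h4 _ _ _))
      (h2 _ _)) (h4 _ _ _)) (h2 _ _)) (h4 _ _ _)) (h2 _ _)⟩

omit S in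
/-- The coordinates of the generic element. -/
def gen : List Poly := (List.range 12).map fun i => pv (2 * i)

theorem gen_eval {l : List K} (hl : l.length = 12) : gen.map (evP (envL m l)) = l := by
  rw [gen, List.map_map]
  refine List.ext_getElem (by simp [hl]) fun i h1 h2 => ?_
  simp [pv, evP, evM, envL, List.getD_eq_getElem?_getD, h2]

omit S in
/-- The collected coordinates of the generic element. -/
def genV : List Poly := (coords 4000 (wEl gen)).getD []

omit S in
theorem genV_ok : coords 4000 (wEl gen) = some genV := by decide +kernel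

theorem El_inj {l l' : List K} (hl : l.length = 12) (hl' : l'.length = 12) (h : El m l = El m l') : l = l' := by
  rw [← gen_eval S hl, ← gen_eval S hl', ← ev_wEl S l gen, ← ev_wEl S l' gen, coords_spec _ genV_ok,
    coords_spec _ genV_ok] at h
  have key : ∀ i, i < 24 → ∀ p : Poly, (padd (genV.getD i []) p).isEmpty = true →
      evP (envL m l) p = evP (envL m l') p := by
    intro i hi p hp
    have := factsF4.prodOver_inj factsF4.closedList_posL h (24 + i)
      (by rw [posL_F4, List.mem_map]; exact ⟨i, List.mem_range.2 hi, rfl⟩)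
    have e : ∀ env : ℕ → K, evP env p = evP env (genV.getD i []) := fun env => by
      have h2 := evP_nil env hp
      rw [evP_padd, CharTwo.add_eq_zero] at h2
      exact h2.symm
    rw [e, e]
    simpa using this
  suffices e : ∀ j, j < 12 → l.getD j 0 = l'.getD j 0 by
    refine List.ext_getElem (hl.trans hl'.symm) fun i h1 h2 => ?_
    simpa [List.getD_eq_getElem?_getD, h1, h2] using e i (hl ▸ h1)
  have e0 : l.getD 0 0 = l'.getD 0 0 := by
    have := key 9 (by norm_num) [[0]] (by decide +kernel)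
    simpa [envL, evP, evM, List.getD_eq_getElem?_getD] using this
  have f0 : l[0]?.getD 0 = l'[0]?.getD 0 := by simpa [List.getD_eq_getElem?_getD] using e0
  have e1 : l.getD 1 0 = l'.getD 1 0 := by
    have := key 10 (by norm_num) [[2]] (by decide +kernel)
    simpa [envL, evP, evM, List.getD_eq_getElem?_getD] using this
  have f1 : l[1]?.getD 0 = l'[1]?.getD 0 := by simpa [List.getD_eq_getElem?_getD] using e1
  have e7 : l.getD 7 0 = l'.getD 7 0 := by
    have := key 11 (by norm_num) [[14]] (by decide +kernel)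
    simpa [envL, evP, evM, List.getD_eq_getElem?_getD] using this
  have f7 : l[7]?.getD 0 = l'[7]?.getD 0 := by simpa [List.getD_eq_getElem?_getD] using e7
  have e2 : l.getD 2 0 = l'.getD 2 0 := by
    have := key 12 (by norm_num) [[1, 14], [4]] (by decide +kernel)
    simpa [envL, evP, evM, List.getD_eq_getElem?_getD, f0, f7] using this
  have f2 : l[2]?.getD 0 = l'[2]?.getD 0 := by simpa [List.getD_eq_getElem?_getD] using e2
  have e9 : l.getD 9 0 = l'.getD 9 0 := by
    have := key 13 (by norm_num) [[18]] (by decide +kernel)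
    simpa [envL, evP, evM, List.getD_eq_getElem?_getD] using this
  have f9 : l[9]?.getD 0 = l'[9]?.getD 0 := by simpa [List.getD_eq_getElem?_getD] using e9
  have e3 : l.getD 3 0 = l'.getD 3 0 := by
    have := key 14 (by norm_num) [[1, 18], [6]] (by decide +kernel)
    simpa [envL, evP, evM, List.getD_eq_getElem?_getD, f0, f9] using this
  have f3 : l[3]?.getD 0 = l'[3]?.getD 0 := by simpa [List.getD_eq_getElem?_getD] using e3
  have e10 : l.getD 10 0 = l'.getD 10 0 := by
    have := key 3 (by norm_num) [[20]] (by decide +kernel)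
    simpa [envL, evP, evM, List.getD_eq_getElem?_getD] using this
  have f10 : l[10]?.getD 0 = l'[10]?.getD 0 := by simpa [List.getD_eq_getElem?_getD] using e10
  have e11 : l.getD 11 0 = l'.getD 11 0 := by
    have := key 4 (by norm_num) [[22]] (by decide +kernel)
    simpa [envL, evP, evM, List.getD_eq_getElem?_getD] using this
  have f11 : l[11]?.getD 0 = l'[11]?.getD 0 := by simpa [List.getD_eq_getElem?_getD] using e11
  have e4 : l.getD 4 0 = l'.getD 4 0 := by
    have := key 5 (by norm_num) [[1, 22], [3, 20], [8]] (by decide +kernel)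
    simpa [envL, evP, evM, List.getD_eq_getElem?_getD, f0, f1, f10, f11] using this
  have f4 : l[4]?.getD 0 = l'[4]?.getD 0 := by simpa [List.getD_eq_getElem?_getD] using e4
  have e6 : l.getD 6 0 = l'.getD 6 0 := by
    have := key 15 (by norm_num) [[3, 18], [8, 14], [12]] (by decide +kernel)
    simpa [envL, evP, evM, List.getD_eq_getElem?_getD, f1, f4, f7, f9] using this
  have f6 : l[6]?.getD 0 = l'[6]?.getD 0 := by simpa [List.getD_eq_getElem?_getD] using e6
  have e8 : l.getD 8 0 = l'.getD 8 0 := by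
    have := key 16 (by norm_num) [[8, 18], [16]] (by decide +kernel)
    simpa [envL, evP, evM, List.getD_eq_getElem?_getD, f4, f9] using this
  have f8 : l[8]?.getD 0 = l'[8]?.getD 0 := by simpa [List.getD_eq_getElem?_getD] using e8
  have e5 : l.getD 5 0 = l'.getD 5 0 := by
    have := key 20 (by norm_num) [[0, 8, 18], [0, 16], [2, 3, 18], [2, 8, 14], [2, 12], [4, 18], [8, 9], [10]] (by decide +kernel)
    simpa [envL, evP, evM, List.getD_eq_getElem?_getD, f0, f1, f2, f4, f6, f7, f8, f9] using this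
  have f5 : l[5]?.getD 0 = l'[5]?.getD 0 := by simpa [List.getD_eq_getElem?_getD] using e5
  intro j hj
  interval_cases j <;> assumption

theorem exists_El {u : GL chevF4.Idx K} (hu : u ∈ (factsF4.tsys K).U) (hf : u ∈ S.T.fix) :
    ∃ l : List K, l.length = 12 ∧ u = El m l := by
  classical
  let f : (Fin 12 → K) → ↥((factsF4.tsys K).U ⊓ S.T.fix) := fun v =>
    ⟨El m (List.ofFn v), (El_mem S _).1, S.le_fix (El_mem S _).2⟩
  have hinj : Function.Injective f := fun v w h =>
    List.ofFn_injective (El_inj S (by simp) (by simp) (congrArg Subtype.val h))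
  have hc : Nat.card ↥((factsF4.tsys K).U ⊓ S.T.fix) = Nat.card (Fin 12 → K) := by
    have h := S.data.card_U
    rw [S.data.U_eq] at h
    change Nat.card ↥((factsF4.tsys K).U ⊓ S.T.fix) ^ 2 = (2 ^ (2 * m + 1)) ^ (chevF4.nroots / 2) at h
    rw [show chevF4.nroots / 2 = 12 * 2 from rfl, pow_mul _ 12 2] at h
    rw [Nat.pow_left_injective two_ne_zero h, Nat.card_fun, S.hK, Nat.card_eq_fintype_card, Fintype.card_fin]
  obtain ⟨v, hv⟩ := ((Nat.bijective_iff_injective_and_card f).2 ⟨hinj, hc.symm⟩).2 ⟨u, hu, hf⟩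
  exact ⟨List.ofFn v, by simp, (congrArg Subtype.val hv).symm⟩

end twist

/-- The composite of reflections. -/
def actL : List (Fin chevF4.rank) → ℕ → ℕ
  | [], s => s
  | i :: ω, s => chevF4.reflectRoot i.val (actL ω s)

theorem actL_lt : ∀ (ω : List (Fin chevF4.rank)) {s : ℕ}, s < 48 → actL ω s < 48
  | [], _, hs => hs
  | i :: ω, _, hs => factsF4.refl_lt i.val i.isLt _ (actL_lt ω hs)

omit [CharP K 2] in
theorem actL_val : ∀ (ω : List (Fin chevF4.rank)) (r : Fin chevF4.nroots),
    (factsF4.refSys.pr ω • r : Fin chevF4.nroots).val = actL ω r.val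
  | [], r => by simp [actL]
  | i :: ω, r => by
    rw [RefSystem.pr_cons, mul_smul, show factsF4.refSys.s i = factsF4.wS i from rfl, factsF4.wS_smul]
    show chevF4.reflectRoot i.val _ = _
    rw [actL_val ω r]
    rfl

theorem nw_X : ∀ (ω : List (Fin chevF4.rank)) {s : ℕ}, s < 48 → ∀ t : K,
    (factsF4.tsys K).nw ω * X s t * ((factsF4.tsys K).nw ω)⁻¹ = X (actL ω s) t
  | [], s, _, t => by simp [TorusSys.nw_nil, actL]
  | i :: ω, s, hs, t => by
    rw [TorusSys.nw_cons, show (factsF4.tsys K).nS i * (factsF4.tsys K).nw ω * X s t *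
      ((factsF4.tsys K).nS i * (factsF4.tsys K).nw ω)⁻¹ = (factsF4.tsys K).nS i *
      ((factsF4.tsys K).nw ω * X s t * ((factsF4.tsys K).nw ω)⁻¹) * ((factsF4.tsys K).nS i)⁻¹ by group,
      nw_X ω hs]
    have h := (factsF4.tsys K).nS_conj i (s := actL ω s) (actL_lt ω hs) t
    rw [factsF4.tsys_x, factsF4.tsys_x] at h
    have hsg : factsF4.sgn K i.val (actL ω s) = 1 := by
      rcases factsF4.eta_sign i.val i.isLt _ (actL_lt ω hs) with he | he <;>
        simp [Facts.sgn, he, CharTwo.neg_eq]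
    rw [hsg, one_mul] at h
    exact h

/-- The representative of the kth twisted reflection. -/
noncomputable def nO (k : ℕ) : GL chevF4.Idx K := (factsF4.tsys K).nw (orbWord chevF4 Os [k])

/-- The roots moved by the kth twisted reflection. -/
def wW (k : ℕ) (w : Word) : Word := w.map fun a => (actL (orbWord chevF4 Os [k]) a.1, a.2)

theorem nO_word (k : ℕ) (env : ℕ → K) : ∀ w : Word, (w.all fun a => decide (a.1 < 48)) = true →
    nO k * evW env w * (nO k)⁻¹ = evW env (wW k w)
  | [], _ => by simp [evW, wW]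
  | (r, p) :: w, h => by
    rw [List.all_cons, Bool.and_eq_true, decide_eq_true_eq] at h
    have e := nO_word k env w h.2
    rw [wW, List.map_cons, evW, evW, show (w.map fun a => (actL (orbWord chevF4 Os [k]) a.1, a.2)) = wW k w from rfl,
      ← e, ← nw_X (orbWord chevF4 Os [k]) h.1 (evP env p), nO]
    group

section weyl

variable [Fintype K] {m : ℕ} (S : Setup K m)

include S

omit S in
theorem braid_tab : ∀ k < 2, ∀ r : Fin 48, actL (orbWord chevF4 Os [k]) r.val =
    actL ((orbWord chevF4 Os [k]).map Cfsg.Agent.Lie.F4.σ) r.val := by decide +kernel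

theorem nO_mem {k : ℕ} (hk : k < 2) : nO (K := K) k ∈ twistedF4 K (2 ^ m) := by
  set ω := orbWord chevF4 Os [k] with hω
  have hgrp : ∀ ω, (factsF4.tsys K).nw ω ∈ chevF4.group K := fun ω =>
    factsF4.monomial_le_group (by rw [← factsF4.tsys_N]; exact (factsF4.tsys K).nw_mem_N ω)
  have hfix : nO (K := K) k ∈ S.T.fix := by
    refine ⟨hgrp ω, ?_⟩
    show S.T.sig ((factsF4.tsys K).nw ω) = (factsF4.tsys K).nw ω
    rw [S.T.sig_nw, S.hs]
    have hc : ((factsF4.tsys K).nw ω)⁻¹ * (factsF4.tsys K).nw (ω.map Cfsg.Agent.Lie.F4.σ) = 1 := by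
      refine factsF4.center_trivial (coeff_of_mem (by simp)) (mul_mem (inv_mem (hgrp _)) (hgrp _)) fun g hg => ?_
      rw [factsF4.group_eq] at hg
      induction hg using Subgroup.closure_induction with
      | mem x hx =>
        obtain ⟨⟨r, t⟩, rfl⟩ := hx
        show X r t * _ = _ * X r t
        by_cases hr : r < 48
        swap
        · have h1 : X r t = 1 := Units.ext (by
            rw [show (X r t : GL chevF4.Idx K).val = _ from factsF4.coe_xg r t, ChevalleyDatum.x,
              dif_neg (show ¬ r < chevF4.nroots from hr)]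
            rfl)
          rw [h1, one_mul, mul_one]
        have h1 := nw_X (K := K) ω hr t
        have h2 := nw_X (K := K) (ω.map Cfsg.Agent.Lie.F4.σ) hr t
        rw [← braid_tab k hk ⟨r, hr⟩, ← h1] at h2
        set a := (factsF4.tsys K).nw ω
        set b := (factsF4.tsys K).nw (ω.map Cfsg.Agent.Lie.F4.σ)
        calc X r t * (a⁻¹ * b) = a⁻¹ * (a * X r t * a⁻¹) * b := by group
          _ = a⁻¹ * (b * X r t * b⁻¹) * b := by rw [h2]
          _ = a⁻¹ * b * X r t := by group
      | one => simp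
      | mul x y _ _ hx hy => rw [mul_assoc, hy, ← mul_assoc, hx, mul_assoc]
      | inv x _ hx => exact ((Commute.inv_left hx : Commute _ _)).eq
    exact (inv_mul_eq_one.1 hc).symm
  have hmem : Os.getD k [] ∈ Os := by
    rw [List.getD_eq_getElem _ _ (show k < Os.length by rw [show Os.length = 2 from rfl]; exact hk)]
    exact List.getElem_mem _
  obtain ⟨a, ha, hn⟩ := S.data.exists_nO hmem
  obtain ⟨c, hc, hce⟩ := (factsF4.tsys K).nw_eq (ω := ω) (w := S.T.wO (Os.getD k []))
    (by rw [hω, orbWord, List.flatMap_cons, List.flatMap_nil, List.append_nil]; rfl)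
  have hh : nO (K := K) k = c * a⁻¹ * (a * (factsF4.tsys K).nW (S.T.wO (Os.getD k []))) := by
    rw [nO, ← hω, hce]; group
  have hH : c * a⁻¹ ∈ (factsF4.tsys K).H := mul_mem hc (inv_mem ha)
  have hf2 : c * a⁻¹ ∈ S.T.fix := by
    have := mul_mem hfix (inv_mem (S.data.le_fix hn))
    rwa [hh, mul_inv_cancel_right] at this
  rw [hh]
  refine mul_mem ?_ hn
  rw [factsF4.tsys_H] at hH
  obtain ⟨t, u, e⟩ := S.exists_crd hH hf2
  rw [e]
  exact S.torus_mem t u

end weyl

end Cfsg.Agent.Small.C2Inv.F4
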